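import Groth.Agent.Lib.Lim.Approx.Morph
import Groth.Agent.Lib.Lim.Eventual
import Groth.Agent.Lib.Lim.Valuative
import Groth.Agent.Lib.Lim.IdealFP
import Mathlib.CategoryTheory.Limits.Constructions.Over.Connected

/-!
# Relative approximation: `X ⟶ S` as a limit of finitely presented `S`-schemes
-/

set_option autoImplicit false
universe u
open CategoryTheory Limits AlgebraicGeometry Opposite TopologicalSpace
open Groth.Agent.Lib.Lim

namespace Groth.Agent.Lib.Lim.Approx.Rel

set_option backward.isDefEq.respectTransparency false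

/-- `f : X ⟶ S` as a directed limit of qcqs finitely presented `S`-schemes, affine transitions. -/
structure RelApprox {X S : Scheme.{u}} (f : X ⟶ S) where
  K : Type u
  [pre : Preorder K]
  [dir : IsDirected K (fun a b => a ≤ b)]
  [ne : Nonempty K]
  D : Kᵒᵖ ⥤ Scheme.{u}
  t : D ⟶ (Functor.const _).obj S
  π : (Functor.const _).obj X ⟶ D
  w : ∀ k, π.app k ≫ t.app k = f
  isLimit : IsLimit (Cone.mk X π)
  affine : ∀ {i j : Kᵒᵖ} (a : i ⟶ j), IsAffineHom (D.map a)
  compact : ∀ k, CompactSpace (D.obj k)
  quasiSep : ∀ k, QuasiSeparatedSpace (D.obj k)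
  lfp : ∀ k, LocallyOfFinitePresentation (t.app k)
  qc : ∀ k, QuasiCompact (t.app k)
  qs : ∀ k, QuasiSeparated (t.app k)

attribute [instance] RelApprox.pre RelApprox.dir RelApprox.ne RelApprox.compact RelApprox.quasiSep
  RelApprox.lfp RelApprox.qc RelApprox.qs

namespace RelApprox

variable {X S : Scheme.{u}} {f : X ⟶ S} (R : RelApprox f)

instance isAffineHom_map {i j : R.Kᵒᵖ} (a : i ⟶ j) : IsAffineHom (R.D.map a) := R.affine a

instance isCofiltered : IsCofiltered R.Kᵒᵖ :=
  have : IsFiltered R.K := isFiltered_of_directed_le_nonempty R.K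
  inferInstance

/-- The limit cone. -/
abbrev cone : Cone R.D := Cone.mk X R.π

/-- The system over `S`. -/
@[simps]
noncomputable def overD : R.Kᵒᵖ ⥤ Over S where
  obj k := Over.mk (R.t.app k)
  map a := Over.homMk (R.D.map a) (by simp)

/-- The limit cone over `S`. -/
noncomputable def overCone : Cone R.overD where
  pt := Over.mk f
  π :=
    { app := fun k => Over.homMk (R.π.app k) (R.w k)
      naturality := fun k k' a => by
        ext
        exact R.π.naturality a }

/-- `X` is the limit over `S`. -/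
noncomputable def isLimitOverCone : IsLimit R.overCone := by
  have : IsConnected R.Kᵒᵖ := IsCofiltered.isConnected _
  exact isLimitOfReflects (Over.forget S)
    (IsLimit.ofIsoLimit R.isLimit (Cone.ext (Iso.refl _) fun k => (Category.id_comp _).symm))

/-- Restriction to a cofinal subset. -/
noncomputable def restrict {K' : Type u} [Preorder K'] [IsDirected K' (fun a b => a ≤ b)] [Nonempty K']
    (p : K' →o R.K) (hp : ∀ k, ∃ k', k ≤ p k') : RelApprox f where
  K := K'
  D := p.monotone.functor.op ⋙ R.D
  t := Functor.whiskerLeft p.monotone.functor.op R.t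
  π := Functor.whiskerLeft p.monotone.functor.op R.π
  w k := R.w _
  isLimit := by
    have : p.monotone.functor.Final := by rw [Monotone.final_functor_iff]; exact hp
    exact (Functor.Initial.isLimitWhiskerEquiv p.monotone.functor.op R.cone).symm R.isLimit
  affine a := R.affine _
  compact k := R.compact _
  quasiSep k := R.quasiSep _
  lfp k := R.lfp _
  qc k := R.qc _
  qs k := R.qs _

/-- Stages above a given one. -/
noncomputable def tail (k₀ : R.K) : RelApprox f :=
  have : Nonempty {k : R.K // k₀ ≤ k} := ⟨⟨k₀, le_rfl⟩⟩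
  have : IsDirected {k : R.K // k₀ ≤ k} (fun a b => a ≤ b) :=
    ⟨fun a b => by
      obtain ⟨c, ha, hb⟩ := exists_ge_ge a.1 b.1
      exact ⟨⟨c, a.2.trans ha⟩, ha, hb⟩⟩
  R.restrict ⟨fun k : {k : R.K // k₀ ≤ k} => k.1, fun _ _ h => h⟩ fun k => by
    obtain ⟨c, hc, hc'⟩ := exists_ge_ge k k₀
    exact ⟨⟨c, hc'⟩, hc⟩

lemma tail_map_eq (k₀ : R.K) {i j : (R.tail k₀).Kᵒᵖ} (a : i ⟶ j) :
    ∃ (i' j' : R.Kᵒᵖ) (b : i' ⟶ j') (e : (R.tail k₀).D.obj i = R.D.obj i')
      (e' : R.D.obj j' = (R.tail k₀).D.obj j),
      (R.tail k₀).D.map a = eqToHom e ≫ R.D.map b ≫ eqToHom e' := by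
  refine ⟨_, _, (homOfLE (show j.unop.1 ≤ i.unop.1 from leOfHom a.unop)).op, rfl, rfl, ?_⟩
  simp
  rfl

end RelApprox

variable {X S : Scheme.{u}} (f : X ⟶ S)

/-- A quasi-compact open containing the image of a compact scheme. -/
lemma exists_compact_open [CompactSpace X] :
    ∃ U : S.Opens, IsCompact (U : Set S) ∧ Set.range f ⊆ U := by
  obtain ⟨s, hs⟩ := (isCompact_range f.continuous).elim_finite_subcover
    (fun U : S.affineOpens => (U.1 : Set S)) (fun U => U.1.2) (fun x _ => by
      obtain ⟨V, hV, hxV, -⟩ := exists_isAffineOpen_mem_and_subset (U := ⊤) (x := x) trivial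
      exact Set.mem_iUnion.mpr ⟨⟨V, hV⟩, hxV⟩)
  refine ⟨⨆ U ∈ s, U.1, ?_, hs.trans (by simp)⟩
  rw [show ((⨆ U ∈ s, U.1 : S.Opens) : Set S) = ⋃ U ∈ s, (U.1 : Set S) by simp]
  exact s.isCompact_biUnion fun U _ => U.2.isCompact

/-- Every morphism from a qcqs scheme to a quasi-separated one is a directed limit of finitely
presented morphisms along affine transition maps. -/
theorem exists_relApprox [CompactSpace X] [QuasiSeparatedSpace X] [QuasiSeparatedSpace S] :
    Nonempty (RelApprox f) := by
  obtain ⟨U, hU, hfU⟩ := exists_compact_open f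
  have : CompactSpace (U : Scheme.{u}) := isCompact_iff_compactSpace.mp hU
  have : QuasiSeparatedSpace (U : Scheme.{u}) :=
    QuasiSeparatedSpace.of_isOpenEmbedding U.ι.isOpenEmbedding
  let fU : X ⟶ (U : Scheme.{u}) := IsOpenImmersion.lift U.ι f (by simpa using hfU)
  have hfU' : fU ≫ U.ι = f := IsOpenImmersion.lift_fac _ _ _
  obtain ⟨AX⟩ := Main.exists_approx (S := X)
  obtain ⟨AS⟩ := Main.exists_approx (S := (U : Scheme.{u}))
  let K := Morph.Idx fU AX AS
  have : IsFiltered K := isFiltered_of_directed_le_nonempty K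
  have : ∀ k : K, LocallyOfFinitePresentation k.φ := fun k => by
    have : LocallyOfFiniteType k.φ := by
      have : LocallyOfFiniteType (k.φ ≫ IsTerminal.from specULiftZIsTerminal _) := by
        rw [specULiftZIsTerminal.hom_ext (k.φ ≫ IsTerminal.from specULiftZIsTerminal _)
          (IsTerminal.from specULiftZIsTerminal _)]
        infer_instance
      exact locallyOfFiniteType_of_comp k.φ (IsTerminal.from specULiftZIsTerminal _)
    infer_instance
  let Z : K → Scheme.{u} := fun k => pullback k.φ (AS.pr k.a)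
  have hw : ∀ {k k' : K} (h : k ≤ k'), AX.tr h.choose_spec.choose ≫ k.φ =
      k'.φ ≫ AS.tr h.choose := fun h => h.choose_spec.choose_spec.symm
  let m : ∀ {k k' : K} (_ : k ≤ k'), Z k' ⟶ Z k := fun {k k'} h =>
    pullback.map k'.φ (AS.pr k'.a) k.φ (AS.pr k.a) (AX.tr h.choose_spec.choose) (𝟙 _)
      (AS.tr h.choose) (hw h).symm (by rw [Category.id_comp, AS.pr_tr])
  have hm₁ : ∀ {k k' : K} (h : k ≤ k'), m h ≫ pullback.fst _ _ =
      pullback.fst _ _ ≫ AX.tr h.choose_spec.choose := fun h => pullback.lift_fst _ _ _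
  have hm₂ : ∀ {k k' : K} (h : k ≤ k'), m h ≫ pullback.snd _ _ = pullback.snd _ _ := fun h =>
    (pullback.lift_snd _ _ _).trans (Category.comp_id _)
  let D : Kᵒᵖ ⥤ Scheme.{u} :=
    { obj := fun k => Z k.unop
      map := fun a => m (leOfHom a.unop)
      map_id := fun k => by
        apply pullback.hom_ext
        · refine (hm₁ (le_refl k.unop)).trans ?_
          rw [AX.tr_self, Category.comp_id, Category.id_comp]
        · exact (hm₂ (le_refl k.unop)).trans (Category.id_comp _).symm
      map_comp := fun {k k' k''} a b => by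
        apply pullback.hom_ext
        · rw [hm₁ (leOfHom (a ≫ b).unop), Category.assoc, hm₁ (leOfHom b.unop), ← Category.assoc,
            hm₁ (leOfHom a.unop), Category.assoc, AX.tr_comp]
        · rw [hm₂ (leOfHom (a ≫ b).unop), Category.assoc, hm₂ (leOfHom b.unop),
            hm₂ (leOfHom a.unop)] }
  have hD₁ : ∀ {k k' : Kᵒᵖ} (a : k ⟶ k'), D.map a ≫ pullback.fst k'.unop.φ (AS.pr k'.unop.a) =
      pullback.fst k.unop.φ (AS.pr k.unop.a) ≫ (Morph.DX fU AX AS).map a := fun a => hm₁ (leOfHom a.unop)
  have hD₂ : ∀ {k k' : Kᵒᵖ} (a : k ⟶ k'), D.map a ≫ pullback.snd k'.unop.φ (AS.pr k'.unop.a) =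
      pullback.snd k.unop.φ (AS.pr k.unop.a) := fun a => hm₂ (leOfHom a.unop)
  have hπ : ∀ k : K, AX.pr k.b ≫ k.φ = fU ≫ AS.pr k.a := fun k => k.w
  let π : (Functor.const _).obj X ⟶ D :=
    { app := fun k => pullback.lift (AX.pr k.unop.b) fU (hπ k.unop)
      naturality := fun k k' a => by
        refine (Category.id_comp _).trans ?_
        apply pullback.hom_ext
        · rw [pullback.lift_fst, Category.assoc, hD₁, pullback.lift_fst_assoc]
          exact (AX.pr_tr _).symm
        · rw [pullback.lift_snd, Category.assoc, hD₂, pullback.lift_snd] }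
  have key : ∀ s : Cone D, ∃! g : s.pt ⟶ X, ∀ k, g ≫ π.app k = s.π.app k := by
    intro s
    have hu : ∀ k k' : Kᵒᵖ, s.π.app k ≫ pullback.snd _ _ = s.π.app k' ≫ pullback.snd _ _ := by
      intro k k'
      obtain ⟨k'', a, b, -⟩ := IsCofilteredOrEmpty.cone_objs k k'
      rw [← s.w a, ← s.w b, Category.assoc, Category.assoc]
      exact (congrArg (_ ≫ ·) (hD₂ a)).trans (congrArg (_ ≫ ·) (hD₂ b)).symm
    let sX : Cone (Morph.DX fU AX AS) :=
      { pt := s.pt
        π :=
          { app := fun k => s.π.app k ≫ pullback.fst _ _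
            naturality := fun k k' a => by
              refine (Category.id_comp _).trans ?_
              rw [← s.w a, Category.assoc, Category.assoc]
              exact congrArg (_ ≫ ·) (hD₁ a) } }
    let g := (Morph.isLimitX fU AX AS).lift sX
    have hg : ∀ k : Kᵒᵖ, g ≫ AX.pr k.unop.b = s.π.app k ≫ pullback.fst _ _ := fun k =>
      (Morph.isLimitX fU AX AS).fac sX k
    refine ⟨g, fun k => pullback.hom_ext ?_ ?_, fun g' hg' => ?_⟩
    · rw [Category.assoc, pullback.lift_fst, hg]
    · rw [Category.assoc, pullback.lift_snd]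
      refine (Morph.isLimitS fU AX AS).hom_ext fun k' => ?_
      show (g ≫ fU) ≫ AS.pr k'.unop.a = (s.π.app k ≫ pullback.snd _ _) ≫ AS.pr k'.unop.a
      rw [hu k k', Category.assoc, Category.assoc, ← hπ, ← Category.assoc, hg, Category.assoc,
        pullback.condition]
    · refine (Morph.isLimitX fU AX AS).hom_ext fun k => ?_
      show g' ≫ AX.pr k.unop.b = g ≫ AX.pr k.unop.b
      rw [hg, ← hg' k, Category.assoc, pullback.lift_fst]
  refine ⟨{
    K := K
    D := D
    t := { app := fun k => pullback.snd _ _ ≫ U.ι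
           naturality := fun k k' a => by
             refine Eq.trans ?_ (Category.comp_id _).symm
             rw [← Category.assoc]
             exact congrArg (· ≫ U.ι) (hD₂ a) }
    π := π
    w := fun k => by rw [← Category.assoc]; exact (congrArg (· ≫ U.ι) (pullback.lift_snd _ _ _)).trans hfU'
    isLimit :=
      { lift := fun s => (key s).choose
        fac := fun s k => (key s).choose_spec.1 k
        uniq := fun s g hg => (key s).choose_spec.2 g hg }
    affine := fun {k k'} a => ?_
    compact := fun k => ?_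
    quasiSep := fun k => ?_
    lfp := fun k => inferInstance
    qc := fun k => ?_
    qs := fun k => inferInstance }⟩
  rotate_right
  · have : QuasiCompact U.ι := inferInstance
    have : QuasiCompact k.unop.φ := inferInstance
    exact inferInstanceAs (QuasiCompact (pullback.snd k.unop.φ (AS.pr k.unop.a) ≫ U.ι))
  · have h1 : IsAffineHom (AS.pr k'.unop.a) := isAffineHom_π_app AS.D AS.cone AS.isLimit _
    have h2 : IsAffineHom (AS.pr k.unop.a) := isAffineHom_π_app AS.D AS.cone AS.isLimit _
    have : IsAffineHom (D.map a ≫ pullback.fst k'.unop.φ (AS.pr k'.unop.a)) := by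
      rw [hD₁]
      have : IsAffineHom ((Morph.DX fU AX AS).map a) := AX.affine _
      have : IsAffineHom (pullback.fst k.unop.φ (AS.pr k.unop.a)) :=
        MorphismProperty.pullback_fst (P := @IsAffineHom) _ _ h2
      infer_instance
    exact IsAffineHom.of_comp (D.map a) (pullback.fst k'.unop.φ (AS.pr k'.unop.a))
  · exact QuasiCompact.compactSpace_of_compactSpace (pullback.snd k.unop.φ (AS.pr k.unop.a))
  · exact quasiSeparatedSpace_of_quasiSeparated (pullback.snd k.unop.φ (AS.pr k.unop.a))

/-- With `f` of finite type, some projection is a closed immersion. -/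
theorem exists_closedImmersion [LocallyOfFiniteType f] (R : RelApprox f) :
    ∃ k, IsClosedImmersion (R.π.app k) := by
  obtain ⟨i₀⟩ := IsCofiltered.nonempty (C := R.Kᵒᵖ)
  have : LocallyOfFiniteType (𝟙 X ≫ R.cone.π.app i₀ ≫ R.t.app i₀) := by
    rw [Category.id_comp, R.w]; infer_instance
  obtain ⟨k, hk⟩ := Eventual.exists_isClosedImmersion_comp R.t R.isLimit (𝟙 X) i₀
  exact ⟨k, by rwa [Category.id_comp] at hk⟩

/-- `X ⟶ S` of finite type is a limit of finitely presented morphisms with closed immersions as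
transition maps. -/
theorem exists_closedApprox [CompactSpace X] [QuasiSeparatedSpace X] [QuasiSeparatedSpace S]
    [LocallyOfFiniteType f] :
    ∃ R : RelApprox f, (∀ {i j : R.Kᵒᵖ} (a : i ⟶ j), IsClosedImmersion (R.D.map a)) ∧
      ∀ k, IsClosedImmersion (R.π.app k) := by
  obtain ⟨R⟩ := exists_relApprox f
  obtain ⟨k, hk⟩ := exists_closedImmersion f R
  let ι := R.π.app k
  let I := ι.ker
  let e := asIso ι.toImage
  have he : e.hom ≫ I.subschemeι = ι := ι.toImage_imageι
  let t : IdealExt.subDiagram I ⟶ (Functor.const _).obj S :=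
    IdealExt.subDiagramι I ≫ (Functor.const _).map (R.t.app k)
  have hw : ∀ J, (e.hom ≫ (IdealExt.subCone I).π.app J) ≫ t.app J = f := by
    intro J
    have h1 : (IdealExt.subCone I).π.app J ≫ J.unop.1.subschemeι = I.subschemeι := by
      simp [IdealExt.subCone]
    show (e.hom ≫ _) ≫ J.unop.1.subschemeι ≫ R.t.app k = f
    rw [Category.assoc, reassoc_of% h1, ← Category.assoc, he]
    exact R.w k
  have hlim : IsLimit (Cone.mk X ((Functor.const _).map e.hom ≫ (IdealExt.subCone I).π)) :=
    (IdealExt.isLimitSubCone I).ofIsoLimit (Cone.ext e.symm fun J => by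
      show _ = e.inv ≫ e.hom ≫ _
      rw [e.inv_hom_id_assoc])
  have hcl : ∀ {i j : (IdealExt.FGSub I)ᵒᵖ} (a : i ⟶ j),
      IsClosedImmersion ((IdealExt.subDiagram I).map a) := fun a => by
    dsimp [IdealExt.subDiagram]; infer_instance
  refine ⟨{
    K := IdealExt.FGSub I
    D := IdealExt.subDiagram I
    t := t
    π := (Functor.const _).map e.hom ≫ (IdealExt.subCone I).π
    w := hw
    isLimit := hlim
    affine := fun a => have := hcl a; inferInstance
    compact := fun J => QuasiCompact.compactSpace_of_compactSpace J.unop.1.subschemeι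
    quasiSep := fun J => quasiSeparatedSpace_of_quasiSeparated J.unop.1.subschemeι
    lfp := fun J => by
      have := IdealFP.lfp_subschemeι J.unop.1 J.unop.2.2
      exact inferInstanceAs (LocallyOfFinitePresentation (J.unop.1.subschemeι ≫ R.t.app k))
    qc := fun J => inferInstanceAs (QuasiCompact (J.unop.1.subschemeι ≫ R.t.app k))
    qs := fun J => inferInstanceAs (QuasiSeparated (J.unop.1.subschemeι ≫ R.t.app k)) }, hcl,
    fun J => ?_⟩
  have : IsClosedImmersion (((Functor.const _).map e.hom ≫ (IdealExt.subCone I).π).app J ≫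
      J.unop.1.subschemeι) := by
    have h1 : (IdealExt.subCone I).π.app J ≫ J.unop.1.subschemeι = I.subschemeι := by
      simp [IdealExt.subCone]
    show IsClosedImmersion ((e.hom ≫ _) ≫ _)
    rw [Category.assoc, h1, he]
    exact hk
  exact IsClosedImmersion.of_comp _ J.unop.1.subschemeι

end Groth.Agent.Lib.Lim.Approx.Rel
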