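import Groth.Agent.Lib.Lim.Basic
import Groth.Agent.Lib.Lim.IdealDescend

/-!
# A closed subscheme of a limit is the limit of its scheme-theoretic images
-/

set_option autoImplicit false
universe u
open CategoryTheory Limits AlgebraicGeometry TopologicalSpace
open Groth.Agent.Lib.Lim

namespace Groth.Agent.Lib.Lim.Approx.Image

set_option backward.isDefEq.respectTransparency false

lemma ker_comp_le_imageι {X Y Z : Scheme.{u}} (e : X ⟶ Y) [QuasiCompact e] (tr : Y ⟶ Z)
    [IsAffineHom tr] : (e ≫ tr).ker ≤ (e.imageι ≫ tr).ker := by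
  intro U s hs
  rw [Scheme.Hom.ker_apply, RingHom.mem_ker] at hs ⊢
  rw [Scheme.Hom.comp_app, CommRingCat.comp_apply] at hs ⊢
  apply Scheme.Hom.toImage_app_injective e ⟨tr ⁻¹ᵁ U.1, U.2.preimage tr⟩
  refine Eq.trans ?_ (map_zero _).symm
  have h2 := congr($(Scheme.Hom.congr_app e.toImage_imageι (tr ⁻¹ᵁ U.1)) (tr.app U.1 s))
  rw [Scheme.Hom.comp_app, CommRingCat.comp_apply, CommRingCat.comp_apply] at h2
  exact h2.trans ((congrArg _ hs).trans (map_zero _))

variable {I : Type u} [SmallCategory I] [IsCofiltered I] {D : I ⥤ Scheme.{u}} {c : Cone D}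
  [∀ {i j : I} (f : i ⟶ j), IsAffineHom (D.map f)] [∀ i, QuasiSeparatedSpace (D.obj i)]
  {X : Scheme.{u}} [CompactSpace X] (ι : X ⟶ c.pt)

lemma ker_le (i : I) {j : I} (φ : i ⟶ j) :
    (ι ≫ c.π.app j).imageι.ker ≤ ((ι ≫ c.π.app i).imageι ≫ D.map φ).ker := by
  rw [Scheme.IdealSheafData.ker_subschemeι]
  have h := ker_comp_le_imageι (ι ≫ c.π.app i) (D.map φ)
  rwa [Category.assoc, c.w] at h

/-- Transition of the images. -/
noncomputable def map {i j : I} (φ : i ⟶ j) :
    (ι ≫ c.π.app i).image ⟶ (ι ≫ c.π.app j).image :=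
  IsClosedImmersion.lift (ι ≫ c.π.app j).imageι ((ι ≫ c.π.app i).imageι ≫ D.map φ) (ker_le ι i φ)

@[reassoc]
lemma map_imageι {i j : I} (φ : i ⟶ j) :
    map ι φ ≫ (ι ≫ c.π.app j).imageι = (ι ≫ c.π.app i).imageι ≫ D.map φ :=
  IsClosedImmersion.lift_fac _ _ _

/-- The system of images. -/
noncomputable def diagram : I ⥤ Scheme.{u} where
  obj i := (ι ≫ c.π.app i).image
  map φ := map ι φ
  map_id i := by
    rw [← cancel_mono (ι ≫ c.π.app i).imageι, map_imageι, D.map_id, Category.comp_id,
      Category.id_comp]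
  map_comp {i j k} φ ψ := by
    rw [← cancel_mono (ι ≫ c.π.app k).imageι, Category.assoc, map_imageι, map_imageι,
      ← Category.assoc (map ι φ), map_imageι, D.map_comp, Category.assoc]

/-- The system of images maps to the original system. -/
noncomputable def incl : diagram ι ⟶ D where
  app i := (ι ≫ c.π.app i).imageι
  naturality _ _ φ := map_imageι ι φ

instance isAffineHom_map {i j : I} (φ : i ⟶ j) : IsAffineHom ((diagram ι).map φ) := by
  have : IsAffineHom (map ι φ ≫ (ι ≫ c.π.app j).imageι) := by rw [map_imageι]; infer_instance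
  exact IsAffineHom.of_comp (map ι φ) (ι ≫ c.π.app j).imageι

/-- The closed subscheme as a cone over the images. -/
noncomputable def cone : Cone (diagram ι) where
  pt := X
  π :=
    { app := fun i => (ι ≫ c.π.app i).toImage
      naturality := fun i j φ => by
        refine (Category.id_comp _).trans ?_
        rw [← cancel_mono (ι ≫ c.π.app j).imageι, Category.assoc]
        refine (Scheme.Hom.toImage_imageι _).trans ?_
        refine Eq.symm ((congrArg (_ ≫ ·) (map_imageι ι φ)).trans ?_)
        rw [← Category.assoc, Scheme.Hom.toImage_imageι, Category.assoc, c.w] }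

/-- A closed subscheme of the limit is the limit of its images. -/
theorem nonempty_isLimit [IsClosedImmersion ι] (hc : IsLimit c) : Nonempty (IsLimit (cone ι)) := by
  have hqs : QuasiSeparatedSpace c.pt := by
    obtain ⟨i₀⟩ := IsCofiltered.nonempty (C := I)
    exact Basic.quasiSeparatedSpace_pt hc i₀
  have hker : ∀ (s : Cone (diagram ι)) (m : s.pt ⟶ c.pt) [QuasiCompact m],
      (∀ i, m ≫ c.π.app i = s.π.app i ≫ (incl ι).app i) → ι.ker ≤ m.ker := by
    intro s m _ hm
    obtain ⟨i₀⟩ := IsCofiltered.nonempty (C := I)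
    have : IsAffineHom (c.π.app i₀) := Basic.isAffineHom_π hc i₀
    refine Scheme.IdealSheafData.le_of_iSup_eq_top
      (fun U : (D.obj i₀).affineOpens => ⟨c.π.app i₀ ⁻¹ᵁ U.1, U.2.preimage _⟩) ?_ fun U x hx => ?_
    · show ⨆ U : (D.obj i₀).affineOpens, c.π.app i₀ ⁻¹ᵁ U.1 = ⊤
      rw [← Scheme.Hom.preimage_iSup, iSup_affineOpens_eq_top]
      rfl
    obtain ⟨j, t, ht⟩ := IdealDescend.exists_section_eq D c hc i₀ U.1 U.2 x
    have heq : c.π.app j.left ⁻¹ᵁ (D.map j.hom ⁻¹ᵁ U.1) = c.π.app i₀ ⁻¹ᵁ U.1 := by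
      rw [← Scheme.Hom.comp_preimage, c.w]
    have h1 : t ∈ (ι ≫ c.π.app j.left).ker.ideal ⟨_, U.2.preimage (D.map j.hom)⟩ := by
      rw [Scheme.Hom.ker_apply, RingHom.mem_ker]
      rw [Scheme.Hom.ker_apply, RingHom.mem_ker] at hx
      subst ht
      rw [Scheme.Hom.comp_app, CommRingCat.comp_apply]
      revert hx
      rw [Scheme.Hom.appLE, CommRingCat.comp_apply]
      intro hx
      have h3 := congr($(ι.naturality (homOfLE heq.ge).op) ((c.π.app j.left).app _ t))
      rw [CommRingCat.comp_apply, CommRingCat.comp_apply] at h3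
      have : IsIso (X.presheaf.map ((Opens.map ι.base).map (homOfLE heq.ge)).op) := by
        have : IsIso (homOfLE heq.ge) := ⟨⟨homOfLE heq.le, rfl, rfl⟩⟩
        infer_instance
      refine (ConcreteCategory.bijective_of_isIso
        (X.presheaf.map ((Opens.map ι.base).map (homOfLE heq.ge)).op)).1 ?_
      rw [map_zero]
      exact h3.symm.trans hx
    have h2 : t ∈ (m ≫ c.π.app j.left).ker.ideal ⟨_, U.2.preimage (D.map j.hom)⟩ := by
      rw [hm]
      refine (Scheme.IdealSheafData.le_def.mp ((Scheme.IdealSheafData.ker_subschemeι _).ge.trans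
        (Scheme.Hom.le_ker_comp _ _)) _ h1 :)
    have hm0 : (m ≫ c.π.app j.left).app (D.map j.hom ⁻¹ᵁ U.1) t = 0 :=
      (Scheme.Hom.ideal_ker_le (m ≫ c.π.app j.left) ⟨_, U.2.preimage (D.map j.hom)⟩) h2
    have hgoal : x ∈ RingHom.ker (m.app (c.π.app i₀ ⁻¹ᵁ U.1)).hom := by
      rw [RingHom.mem_ker]
      subst ht
      rw [Scheme.Hom.appLE, CommRingCat.comp_apply]
      have h3 := congr($(m.naturality (homOfLE heq.ge).op) ((c.π.app j.left).app _ t))
      rw [CommRingCat.comp_apply, CommRingCat.comp_apply] at h3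
      rw [Scheme.Hom.comp_app, CommRingCat.comp_apply] at hm0
      exact h3.trans ((congrArg _ hm0).trans (map_zero _))
    rw [Scheme.Hom.ker_apply]
    exact hgoal
  have key : ∀ s : Cone (diagram ι), ∃! g : s.pt ⟶ X, ∀ i, g ≫ (cone ι).π.app i = s.π.app i := by
    intro s
    let sD : Cone D := (Cone.postcompose (incl ι)).obj s
    let m := hc.lift sD
    have hm : ∀ i, m ≫ c.π.app i = s.π.app i ≫ (incl ι).app i := fun i => hc.fac sD i
    let 𝒰 := s.pt.affineCover
    have hl : ∀ a, ι.ker ≤ (𝒰.f a ≫ m).ker := fun a => by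
      have : IsAffine (𝒰.X a) := inferInstanceAs (IsAffine (Spec _))
      let sa : Cone (diagram ι) :=
        { pt := 𝒰.X a
          π := (Functor.const I).map (𝒰.f a) ≫ s.π }
      exact hker sa (𝒰.f a ≫ m) (fun i => by
        rw [Category.assoc, hm, ← Category.assoc]
        rfl)
    let g := Scheme.Cover.glueMorphisms 𝒰 (fun a => IsClosedImmersion.lift ι (𝒰.f a ≫ m) (hl a))
      (fun a b => by
        rw [← cancel_mono ι, Category.assoc, Category.assoc, IsClosedImmersion.lift_fac,
          IsClosedImmersion.lift_fac, pullback.condition_assoc])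
    have hg : g ≫ ι = m := 𝒰.hom_ext _ _ fun a => by
      rw [Scheme.Cover.ι_glueMorphisms_assoc, IsClosedImmersion.lift_fac]
    refine ⟨g, fun i => ?_, fun g' hg' => ?_⟩
    · rw [← cancel_mono ((ι ≫ c.π.app i).imageι), Category.assoc]
      refine (congrArg (_ ≫ ·) (Scheme.Hom.toImage_imageι (ι ≫ c.π.app i))).trans ?_
      rw [← Category.assoc, hg]
      exact hm i
    · rw [← cancel_mono ι, hg]
      refine hc.hom_ext fun i => ?_
      rw [hm, Category.assoc, ← hg' i, Category.assoc]
      exact congrArg (g' ≫ ·) (Scheme.Hom.toImage_imageι (ι ≫ c.π.app i)).symm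
  exact ⟨{ lift := fun s => (key s).choose
           fac := fun s i => (key s).choose_spec.1 i
           uniq := fun s g hg => (key s).choose_spec.2 g hg }⟩

end Groth.Agent.Lib.Lim.Approx.Image
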