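import Groth.Agent.Lib.Lim.Approx.Rel

/-!
# A proper morphism is a limit of finitely presented proper morphisms
-/

set_option autoImplicit false
universe u
open CategoryTheory Limits AlgebraicGeometry Opposite TopologicalSpace IsLocalRing
open Groth.Agent.Lib.Lim Groth.Agent.Lib.Lim.Basic Groth.Agent.Lib.Lim.Ultra Groth.Agent.Lib.Lim.Valuative

namespace Groth.Agent.Lib.Lim.Approx.Proper

set_option backward.isDefEq.respectTransparency false

variable {I : Type u} [SmallCategory I] [IsCofiltered I] {D : I ⥤ Scheme.{u}} {c : Cone D}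
  {S : Scheme.{u}} [∀ {i j : I} (f : i ⟶ j), IsClosedImmersion (D.map f)]
  [∀ i, CompactSpace (D.obj i)] [∀ i, QuasiSeparatedSpace (D.obj i)]

/-- With closed immersions as transition maps, a universally closed limit forces a universally
closed stage. -/
theorem exists_universallyClosed (hc : IsLimit c) (t : D ⟶ (Functor.const I).obj S)
    [CompactSpace S] [QuasiSeparatedSpace S] [∀ i, LocallyOfFiniteType (t.app i)]
    [∀ i, QuasiCompact (t.app i)] (i₀ : I) [UniversallyClosed (c.π.app i₀ ≫ t.app i₀)] :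
    ∃ i, UniversallyClosed (t.app i) := by
  by_contra hne
  push Not at hne
  have hfail : ∀ j : Stage I, ∃ Sq : ValuativeCommSq (t.app j.k), ¬ Sq.commSq.HasLift := by
    intro j
    by_contra h'
    push Not at h'
    exact hne j.k (.of_valuativeCriterion _ h')
  choose Sq hSq using hfail
  let K := fun j => (Sq j).K
  let R := fun j => (Sq j).R
  obtain ⟨u, hu⟩ := exists_limit D hc (fieldULim (stageUF I) K) (fun j => (Sq j).i₁)
  obtain ⟨y, hy⟩ := exists_isULim (T := S) (valULim (stageUF I) K R) (fun j => some (Sq j).i₂)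
    (Filter.Eventually.of_forall fun j => ⟨_, rfl⟩)
  have hcomp : ∀ᶠ j in (stageUF I : Filter (Stage I)),
      (fam D (fun j => (Sq j).i₁) i₀ j).map (· ≫ t.app i₀) =
        (some (Sq j).i₂).map (genAt K R j ≫ ·) := by
    filter_upwards [eventually_objs i₀] with j hj
    rw [fam_eq _ _ _ _ hj, Option.map_some, Option.map_some, Category.assoc, t.naturality]
    exact congrArg some (by simpa using (Sq j).commSq.w)
  have hqs : QuasiSeparatedSpace (((Functor.const I).obj S).obj i₀) :=
    inferInstanceAs (QuasiSeparatedSpace S)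
  have hsq : u ≫ c.π.app i₀ ≫ t.app i₀ = gen K R ≫ y := by
    rw [← Category.assoc]
    exact IsULim.unique ((hu i₀).comp (t.app i₀))
      ((IsULim.generic _ K R hy).congr (hcomp.mono fun j hj => hj.symm))
  have hlift : (ValuativeCriterion.Existence) (c.π.app i₀ ≫ t.app i₀) := by
    have : CompactSpace c.pt := compactSpace_pt hc i₀
    have hqc : QuasiCompact (c.π.app i₀) := have := isAffineHom_π hc i₀; inferInstance
    have := congrFun (congrFun (congrFun (congrArg (·) UniversallyClosed.eq_valuativeCriterion)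
      c.pt) S) (c.π.app i₀ ≫ t.app i₀)
    exact (this.mp inferInstance).1
  let S' : ValuativeCommSq (c.π.app i₀ ≫ t.app i₀) :=
    { R := VV (stageUF I) K R, K := KK (stageUF I) K, i₁ := u, i₂ := y, commSq := ⟨hsq⟩ }
  obtain ⟨⟨l, hl₁, hl₂⟩⟩ := hlift S'
  have hl := exists_lift K R (t.app i₀) (fam D (fun j => (Sq j).i₁) i₀) (fun j => some (Sq j).i₂)
    hcomp hy (hu i₀) (l ≫ c.π.app i₀)
    (by rw [← Category.assoc]; exact congrArg (· ≫ c.π.app i₀) hl₁)
    (by rw [Category.assoc]; exact hl₂)
  obtain ⟨j, hj, lj, hlj₁, hlj₂⟩ := ((eventually_objs i₀).and hl).exists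
  rw [fam_eq _ _ _ _ hj] at hlj₁
  replace hlj₁ := Option.some.inj hlj₁
  replace hlj₂ := Option.some.inj hlj₂
  let χ := D.map (j.χ i₀ hj)
  let S2 : ValuativeCommSq χ :=
    { R := (Sq j).R, K := (Sq j).K, i₁ := (Sq j).i₁, i₂ := lj, commSq := ⟨hlj₁⟩ }
  have hχ : (ValuativeCriterion.Existence) χ := by
    have := congrFun (congrFun (congrFun (congrArg (·) UniversallyClosed.eq_valuativeCriterion)
      (D.obj j.k)) (D.obj i₀)) χ
    exact (this.mp inferInstance).1
  obtain ⟨⟨L, hL₁, hL₂⟩⟩ := hχ S2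
  exact hSq j ⟨⟨⟨L, hL₁, by
    rw [hlj₂, ← (show L ≫ χ = lj from hL₂), Category.assoc, t.naturality]
    exact congrArg (L ≫ ·) (Category.comp_id _).symm⟩⟩⟩

/-- A proper morphism to a qcqs scheme is a limit of finitely presented proper morphisms along
closed immersions. -/
theorem exists_properApprox {X S : Scheme.{u}} (f : X ⟶ S) [IsProper f] [CompactSpace S]
    [QuasiSeparatedSpace S] :
    ∃ R : Rel.RelApprox f, (∀ {i j : R.Kᵒᵖ} (a : i ⟶ j), IsClosedImmersion (R.D.map a)) ∧
      (∀ k, IsClosedImmersion (R.π.app k)) ∧ ∀ k, IsProper (R.t.app k) := by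
  have : CompactSpace X := QuasiCompact.compactSpace_of_compactSpace f
  have : QuasiSeparatedSpace X := quasiSeparatedSpace_of_quasiSeparated f
  obtain ⟨R, hcl, hπ⟩ := Rel.exists_closedApprox f
  obtain ⟨k₀⟩ := R.ne
  have : IsProper (R.cone.π.app (op k₀) ≫ R.t.app (op k₀)) := by rw [R.w]; infer_instance
  have := fun {i j : R.Kᵒᵖ} (a : i ⟶ j) => hcl a
  obtain ⟨i, hi⟩ := exists_isSeparated R.isLimit R.t (op k₀)
  obtain ⟨i', hi'⟩ := exists_universallyClosed R.isLimit R.t (op k₀)
  obtain ⟨k, hk, hk'⟩ := exists_ge_ge i.unop i'.unop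
  refine ⟨R.tail k, fun a => hcl _, fun _ => hπ _, fun m => ?_⟩
  have hm : k ≤ m.unop.1 := m.unop.2
  let a : op m.unop.1 ⟶ i := (homOfLE (hk.trans hm)).op
  let a' : op m.unop.1 ⟶ i' := (homOfLE (hk'.trans hm)).op
  show IsProper (R.t.app (op m.unop.1))
  have e : R.t.app (op m.unop.1) = R.D.map a ≫ R.t.app i := by simp
  have e' : R.t.app (op m.unop.1) = R.D.map a' ≫ R.t.app i' := by simp
  have h1 : IsSeparated (R.t.app (op m.unop.1)) := by
    have : IsClosedImmersion (R.D.map a) := hcl a
    rw [e]; infer_instance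
  have h2 : UniversallyClosed (R.t.app (op m.unop.1)) := by
    have : IsClosedImmersion (R.D.map a') := hcl a'
    rw [e']
    exact MorphismProperty.comp_mem @UniversallyClosed _ _ inferInstance hi'
  exact { }

end Groth.Agent.Lib.Lim.Approx.Proper
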