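import Groth.Agent.Lib.Lim.Approx.Ring

/-!
# Existence of the input of an approximation step
-/

set_option autoImplicit false
universe u
open CategoryTheory Limits AlgebraicGeometry Opposite TopologicalSpace
open Groth.Agent.Lib.Lim.Approx.Basic Groth.Agent.Lib.Lim.Approx.Ring

namespace Groth.Agent.Lib.Lim.Approx.Datum

set_option backward.isDefEq.respectTransparency false

variable {T V U : Scheme.{u}}

/-- An affine open of the limit is affine at some stage. -/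
lemma exists_affine (A : Approx V) {i : A.I} (O : (A.D.obj (op i)).Opens)
    (hO : IsCompact (O : Set (A.D.obj (op i)))) (h : IsAffineOpen (A.pr i ⁻¹ᵁ O)) :
    ∃ (i' : A.I) (hle : i ≤ i'), IsAffineOpen (A.tr hle ⁻¹ᵁ O) := by
  have (j : Over (op i)) : CompactSpace ((opensDiagram A.D (op i) O).obj j) :=
    isCompact_iff_compactSpace.mp (QuasiCompact.isCompact_preimage _ O.2 hO)
  have (j : Over (op i)) : QuasiSeparatedSpace ((opensDiagram A.D (op i) O).obj j) :=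
    QuasiSeparatedSpace.of_isOpenEmbedding (A.D.map j.hom ⁻¹ᵁ O).ι.isOpenEmbedding
  have : IsAffine (opensCone A.D A.cone (op i) O).pt := h
  obtain ⟨j, hj⟩ := Scheme.exists_isAffine_of_isLimit _ _
    (isLimitOpensCone A.D A.cone A.isLimit (op i) O)
  exact ⟨j.left.unop, leOfHom j.hom.unop, hj⟩

/-- A section over the preimage of a quasi-compact open comes from a stage. -/
lemma exists_section (A : Approx V) {i : A.I} (O : (A.D.obj (op i)).Opens)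
    (hO : IsCompact (O : Set (A.D.obj (op i))))
    (s : Γ(((A.pr i ⁻¹ᵁ O : V.Opens) : Scheme.{u}), ⊤)) :
    ∃ (i' : A.I) (hle : i ≤ i') (t : Γ(((A.tr hle ⁻¹ᵁ O : (A.D.obj (op i')).Opens) : Scheme.{u}), ⊤)),
      ((A.pr i').resLE (A.tr hle ⁻¹ᵁ O) (A.pr i ⁻¹ᵁ O)
        (by rw [← Scheme.Hom.comp_preimage, A.pr_tr])).appTop t = s := by
  have (j : Over (op i)) : CompactSpace ((opensDiagram A.D (op i) O).obj j) :=
    isCompact_iff_compactSpace.mp (QuasiCompact.isCompact_preimage _ O.2 hO)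
  have (j : Over (op i)) : QuasiSeparatedSpace ((opensDiagram A.D (op i) O).obj j) :=
    QuasiSeparatedSpace.of_isOpenEmbedding (A.D.map j.hom ⁻¹ᵁ O).ι.isOpenEmbedding
  obtain ⟨j, t, ht⟩ := exists_appTop_π_eq_of_isLimit (opensDiagram A.D (op i) O) _
    (isLimitOpensCone A.D A.cone A.isLimit (op i) O) s
  exact ⟨j.left.unop, leOfHom j.hom.unop, t, ht.symm⟩

lemma exists_ge_all (A : Approx V) (i : A.I) {n : ℕ} (i' : Fin n → A.I) :
    ∃ k, i ≤ k ∧ ∀ l, i' l ≤ k := by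
  induction n with
  | zero => exact ⟨i, le_rfl, fun l => l.elim0⟩
  | succ n ih =>
    obtain ⟨k, hk, hk'⟩ := ih (fun l => i' l.succ)
    obtain ⟨k', h₁, h₂⟩ := A.exists_ge k (i' 0)
    exact ⟨k', hk.trans h₁, Fin.cases h₂ (fun l => (hk' l).trans h₁)⟩

variable (jV : V ⟶ T) (jU : U ⟶ T) [IsOpenImmersion jV] [IsOpenImmersion jU] [IsAffine U]

/-- Every step has an input. -/
theorem exists_datum (A : Approx V) (hW : IsCompact ((jV ⁻¹ᵁ jU.opensRange : V.Opens) : Set V))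
    (hO : IsCompact ((jU ⁻¹ᵁ jV.opensRange : U.Opens) : Set U)) :
    Nonempty (Ring.Datum jV jU A) := by
  classical
  obtain ⟨i₁, W₁, hW₁c, hW₁⟩ := exists_preimage_eq A.D A.cone A.isLimit (jV ⁻¹ᵁ jU.opensRange) hW
  obtain ⟨i₁, rfl⟩ : ∃ i, op i = i₁ := ⟨i₁.unop, rfl⟩
  replace hW₁ : A.pr i₁ ⁻¹ᵁ W₁ = jV ⁻¹ᵁ jU.opensRange := hW₁
  -- the basic opens of `U` covering the intersection
  obtain ⟨s, hs, hsf, hs'⟩ := (isBasis_basicOpen U).exists_finite_of_isCompact hO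
  have hsr : ∀ x ∈ s, ∃ r : Γ(U, ⊤), U.basicOpen r = x := fun x hx => by
    obtain ⟨r, hr⟩ := hs hx
    exact ⟨r, hr⟩
  let e := (Fintype.equivFin hsf.toFinset).symm
  have he : ∀ k, ∃ r : Γ(U, ⊤), U.basicOpen r = (e k).1 := fun k =>
    hsr _ (hsf.mem_toFinset.mp (e k).2)
  choose f hf using he
  have hcov : ∀ x : U, x ∈ jU ⁻¹ᵁ jV.opensRange → ∃ k, x ∈ U.basicOpen (f k) := by
    intro x hx
    rw [hs'] at hx
    obtain ⟨W, hW', hxW⟩ := Opens.mem_sSup.mp hx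
    refine ⟨e.symm ⟨W, hsf.mem_toFinset.mpr hW'⟩, ?_⟩
    rw [hf, Equiv.apply_symm_apply]
    exact hxW
  have hle : ∀ k, U.basicOpen (f k) ≤ jU ⁻¹ᵁ jV.opensRange := fun k => by
    rw [hf, hs']
    exact le_sSup (hsf.mem_toFinset.mp (e k).2)
  -- the inclusion of the intersection in `U`
  let W : V.Opens := A.pr i₁ ⁻¹ᵁ W₁
  have hr : Set.range (W.ι ≫ jV) ⊆ Set.range jU := by
    rintro _ ⟨x, rfl⟩
    exact hW₁.le x.2
  let a : (W : Scheme.{u}) ⟶ U := IsOpenImmersion.lift jU (W.ι ≫ jV) hr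
  have ha : a ≫ jU = W.ι ≫ jV := IsOpenImmersion.lift_fac _ _ _
  have : IsOpenImmersion a :=
    have : IsOpenImmersion (a ≫ jU) := by rw [ha]; infer_instance
    IsOpenImmersion.of_comp _ jU
  have hrange : ∀ k, U.basicOpen (f k) ≤ a.opensRange := by
    intro k x hx
    obtain ⟨v, hv⟩ := hle k hx
    have hvW : v ∈ W := hW₁.ge ⟨x, hv.symm⟩
    refine ⟨⟨v, hvW⟩, jU.isOpenEmbedding.injective ?_⟩
    rw [← Scheme.Hom.comp_apply, ha]
    exact hv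
  -- spread out the functions
  choose i hi t ht using fun k => exists_section A W₁ hW₁c (a.appTop (f k))
  obtain ⟨i₂, hi₂, hi₂'⟩ := exists_ge_all A i₁ i
  let W₂ : (A.D.obj (op i₂)).Opens := A.tr hi₂ ⁻¹ᵁ W₁
  have hW₂c : IsCompact (W₂ : Set (A.D.obj (op i₂))) :=
    QuasiCompact.isCompact_preimage (f := A.tr hi₂) _ W₁.2 hW₁c
  have hW₂ : A.pr i₂ ⁻¹ᵁ W₂ = jV ⁻¹ᵁ jU.opensRange := by
    rw [← Scheme.Hom.comp_preimage, A.pr_tr, hW₁]
  let g : ∀ k, Γ((W₂ : Scheme.{u}), ⊤) := fun k =>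
    ((A.tr (hi₂' k)).resLE (A.tr (hi k) ⁻¹ᵁ W₁) W₂
      (by rw [← Scheme.Hom.comp_preimage, A.tr_comp])).appTop (t k)
  let w₂ : (W : Scheme.{u}) ⟶ (W₂ : Scheme.{u}) :=
    (A.pr i₂).resLE W₂ W (by rw [← Scheme.Hom.comp_preimage, A.pr_tr])
  have hg : ∀ k, w₂.appTop (g k) = a.appTop (f k) := by
    intro k
    rw [← ConcreteCategory.comp_apply, ← Scheme.Hom.comp_appTop, Scheme.Hom.resLE_comp_resLE,
      ← ht k]
    congr! 3
    rw [← cancel_mono (A.tr (hi k) ⁻¹ᵁ W₁).ι, Scheme.Hom.resLE_comp_ι, Scheme.Hom.resLE_comp_ι,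
      A.pr_tr]
  -- make the basic opens affine and covering
  let O : Fin _ → (A.D.obj (op i₂)).Opens := fun k => W₂.ι ''ᵁ (W₂ : Scheme.{u}).basicOpen (g k)
  have hOc : ∀ k, IsCompact (O k : Set (A.D.obj (op i₂))) := by
    intro k
    have : CompactSpace (W₂ : Scheme.{u}) := isCompact_iff_compactSpace.mp hW₂c
    exact ((isRetrocompact_basicOpen (g k)).isCompact).image W₂.ι.continuous
  have hOpre : ∀ k, A.pr i₂ ⁻¹ᵁ O k = W.ι ''ᵁ (a ⁻¹ᵁ U.basicOpen (f k)) := by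
    intro k
    ext v
    have hw : ∀ x : (W : Scheme.{u}), A.pr i₂ x.1 = (w₂ x).1 := fun x =>
      (congr($(Scheme.Hom.resLE_comp_ι (A.pr i₂) _) x)).symm
    constructor
    · rintro ⟨y, hy, hyv⟩
      have hv : v ∈ W := by
        have : A.pr i₂ v ∈ W₂ := by rw [← hyv]; exact y.2
        exact (hW₂.trans hW₁.symm).le this
      refine ⟨⟨v, hv⟩, ?_, rfl⟩
      rw [Scheme.preimage_basicOpen_top, ← hg k, ← Scheme.preimage_basicOpen_top]
      have : w₂ ⟨v, hv⟩ = y := Subtype.ext ((hw ⟨v, hv⟩).symm.trans hyv.symm)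
      exact (this ▸ hy : w₂ ⟨v, hv⟩ ∈ _)
    · rintro ⟨x, hx, rfl⟩
      rw [Scheme.preimage_basicOpen_top, ← hg k, ← Scheme.preimage_basicOpen_top] at hx
      exact ⟨w₂ x, hx, (hw x).symm⟩
  have hOaff : ∀ k, IsAffineOpen (A.pr i₂ ⁻¹ᵁ O k) := by
    intro k
    rw [hOpre]
    exact (((isAffineOpen_top U).basicOpen (f k)).preimage_of_isOpenImmersion a
      (hrange k)).image_of_isOpenImmersion W.ι
  choose i' hi' haff using fun k => exists_affine A (O k) (hOc k) (hOaff k)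
  have hsup : A.pr i₂ ⁻¹ᵁ W₂ ≤ A.pr i₂ ⁻¹ᵁ ⨆ k, O k := by
    intro v hv
    have hvW : v ∈ W := (hW₂.trans hW₁.symm).le hv
    obtain ⟨k, hk⟩ := hcov (a ⟨v, hvW⟩) ⟨v, by
      rw [← Scheme.Hom.comp_apply, ha]; rfl⟩
    rw [Scheme.Hom.preimage_iSup]
    exact Opens.mem_iSup.mpr ⟨k, (hOpre k).ge ⟨⟨v, hvW⟩, hk, rfl⟩⟩
  obtain ⟨j, φ, hj⟩ := exists_map_preimage_le_map_preimage A.D A.cone A.isLimit hW₂c hsup
  obtain ⟨i₃, hi₃, hi₃'⟩ := exists_ge_all A j.unop i'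
  have h23 : i₂ ≤ i₃ := (leOfHom φ.unop).trans hi₃
  let W₃ : (A.D.obj (op i₃)).Opens := A.tr h23 ⁻¹ᵁ W₂
  let g₃ : ∀ k, Γ((W₃ : Scheme.{u}), ⊤) := fun k => (A.tr h23 ∣_ W₂).appTop (g k)
  have hW₃O : ∀ k, W₃.ι ''ᵁ (W₃ : Scheme.{u}).basicOpen (g₃ k) = A.tr h23 ⁻¹ᵁ O k := by
    intro k
    rw [show (W₃ : Scheme.{u}).basicOpen (g₃ k) =
      (A.tr h23 ∣_ W₂) ⁻¹ᵁ (W₂ : Scheme.{u}).basicOpen (g k) from
      (Scheme.preimage_basicOpen_top _ _).symm, image_morphismRestrict_preimage]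
  refine ⟨{
    i₀ := i₃
    W₀ := W₃
    preim := by rw [← Scheme.Hom.comp_preimage, A.pr_tr]; exact hW₂
    isCompact := QuasiCompact.isCompact_preimage (f := A.tr h23) _ W₂.2 hW₂c
    n := _
    f := f
    g := g₃
    fg := ?_, f_le := ?_, affine := ?_, cover := ?_ }⟩
  · intro k a' ha'
    have hW' : A.pr i₃ ⁻¹ᵁ W₃ = W := by
      rw [← Scheme.Hom.comp_preimage, A.pr_tr]; exact hW₂.trans hW₁.symm
    have e : a' = V.homOfLE hW'.le ≫ a := by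
      rw [← cancel_mono jU, ha', Category.assoc, ha, Scheme.homOfLE_ι_assoc]
    have e2 : V.homOfLE hW'.le ≫ w₂ = (A.pr i₃ ∣_ W₃) ≫ (A.tr h23 ∣_ W₂) := by
      rw [← cancel_mono W₂.ι, Category.assoc, Category.assoc, Scheme.Hom.resLE_comp_ι,
        Scheme.homOfLE_ι_assoc, morphismRestrict_ι, morphismRestrict_ι_assoc, A.pr_tr]
    rw [e, Scheme.Hom.comp_appTop, ConcreteCategory.comp_apply, ← hg k]
    show ((w₂.appTop ≫ (V.homOfLE hW'.le).appTop) (g k)) =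
      ((A.tr h23 ∣_ W₂).appTop ≫ (A.pr i₃ ∣_ W₃).appTop) (g k)
    rw [← Scheme.Hom.comp_appTop, ← Scheme.Hom.comp_appTop, e2]
  · intro k a' ha' x hx
    obtain ⟨w, rfl⟩ := hrange k hx
    have hW' : W ≤ A.pr i₃ ⁻¹ᵁ W₃ := by
      rw [← Scheme.Hom.comp_preimage, A.pr_tr]; exact (hW₁.trans hW₂.symm).le
    refine ⟨V.homOfLE hW' w, jU.isOpenEmbedding.injective ?_⟩
    rw [← Scheme.Hom.comp_apply, ← Scheme.Hom.comp_apply, ha', Scheme.homOfLE_ι_assoc,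
      ← Scheme.Hom.comp_apply, ha]
  · intro k
    rw [← Scheme.Hom.isAffineOpen_iff_of_isOpenImmersion W₃.ι, hW₃O,
      show A.tr h23 ⁻¹ᵁ O k = A.tr (hi₃' k) ⁻¹ᵁ (A.tr (hi' k) ⁻¹ᵁ O k) by
        rw [← Scheme.Hom.comp_preimage, A.tr_comp]]
    exact (haff k).preimage _
  · intro x
    have h1 : A.tr hi₃ x.1 ∈ A.D.map φ ⁻¹ᵁ W₂ := by
      show A.D.map φ (A.tr hi₃ x.1) ∈ W₂
      rw [← Scheme.Hom.comp_apply]
      erw [A.tr_comp (leOfHom φ.unop) hi₃]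
      exact x.2
    have h2 := hj h1
    rw [Scheme.Hom.preimage_iSup] at h2
    obtain ⟨k, hk⟩ := Opens.mem_iSup.mp h2
    have hk' : x.1 ∈ A.tr h23 ⁻¹ᵁ O k := by
      show A.tr h23 x.1 ∈ O k
      rw [← A.tr_comp (leOfHom φ.unop) hi₃]
      exact hk
    rw [← hW₃O] at hk'
    obtain ⟨y, hy, hyx⟩ := hk'
    exact ⟨k, (Subtype.ext hyx : y = x) ▸ hy⟩

end Groth.Agent.Lib.Lim.Approx.Datum
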