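import Groth.Agent.Lib.Lim.Approx.Step
import Groth.Agent.Lib.Lim.Approx.Datum

/-!
# Absolute Noetherian approximation

* `exists_extends`: an approximation of a quasi-compact open extends to the whole scheme
  (Stacks, approximation relative to a quasi-compact open).
* `exists_approx`: every qcqs scheme is a limit of schemes of finite type over `ℤ` with affine
  transition maps (Thomason–Trobaugh).
-/

set_option autoImplicit false
universe u
open CategoryTheory Limits AlgebraicGeometry Opposite TopologicalSpace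
open Groth.Agent.Lib.Lim.Approx.Basic

namespace Groth.Agent.Lib.Lim.Approx.Main

set_option backward.isDefEq.respectTransparency false

/-- Transport of an approximation along an isomorphism. -/
noncomputable def ofIso {X Y : Scheme.{u}} (A : Approx X) (e : X ≅ Y) : Approx Y where
  toSys := A.toSys
  π := (Functor.const _).map e.inv ≫ A.π
  isLimit := A.isLimit.ofIsoLimit (Cone.ext e (fun j => (e.hom_inv_id_assoc _).symm))

/-- Transport of an extension along an isomorphism. -/
noncomputable def extendsOfIso {X Y V : Scheme.{u}} {j : V ⟶ X} {AV : Approx V} {A : Approx X}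
    (e : Extends j AV A) (φ : X ≅ Y) (j' : V ⟶ Y) (h : j ≫ φ.hom = j') :
    Extends j' AV (ofIso A φ) where
  α := e.α
  ι := e.ι
  isOpen := e.isOpen
  w := e.w
  pre := e.pre
  π_w k := by
    subst h
    show (j ≫ φ.hom) ≫ φ.inv ≫ A.pr k = _
    rw [Category.assoc, φ.hom_inv_id_assoc]
    exact e.π_w k
  pre_π k := by
    subst h
    intro y hy
    obtain ⟨v, hv⟩ := e.pre_π k (show A.pr k (φ.inv y) ∈ Set.range (e.ι k) from hy)
    refine ⟨v, ?_⟩
    rw [Scheme.Hom.comp_apply, hv, ← Scheme.Hom.comp_apply, φ.inv_hom_id]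
    rfl

/-- An approximation extends itself. -/
noncomputable def extendsRefl {V : Scheme.{u}} (A : Approx V) : Extends (𝟙 V) A A where
  α := OrderHom.id
  ι k := 𝟙 _
  isOpen k := inferInstance
  w h := (Category.comp_id _).trans (Category.id_comp _).symm
  pre h x _ := ⟨x, rfl⟩
  π_w k := (Category.id_comp _).trans (Category.comp_id _).symm
  pre_π k x _ := ⟨x, rfl⟩

variable {S : Scheme.{u}} [QuasiSeparatedSpace S]

lemma isCompact_preimage_homOfLE {W U T : S.Opens} (hW : W ≤ T) (hU : U ≤ T)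
    (hWc : IsCompact (W : Set S)) (hUc : IsCompact (U : Set S)) :
    IsCompact ((S.homOfLE hW ⁻¹ᵁ (S.homOfLE hU).opensRange : Opens (W : Scheme.{u})) :
      Set (W : Scheme.{u})) := by
  rw [W.ι.isOpenEmbedding.isInducing.isCompact_iff]
  convert QuasiSeparatedSpace.inter_isCompact (W : Set S) U W.2 hWc U.2 hUc
  ext x
  constructor
  · rintro ⟨w, ⟨z, hz⟩, rfl⟩
    refine ⟨w.2, ?_⟩
    have := congrArg T.ι hz
    rw [← Scheme.Hom.comp_apply, ← Scheme.Hom.comp_apply, Scheme.homOfLE_ι,
      Scheme.homOfLE_ι] at this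
    exact this ▸ z.2
  · rintro ⟨hx, hx'⟩
    exact ⟨⟨x, hx⟩, ⟨⟨x, hx'⟩, Subtype.ext (by simp)⟩, rfl⟩

/-- Adding an affine open to an open with an approximation. -/
theorem exists_step (W : S.Opens) (hW : IsCompact (W : Set S)) (U : S.affineOpens)
    (A : Approx (W : Scheme.{u})) :
    ∃ A' : Approx ((W ⊔ U.1 : S.Opens) : Scheme.{u}),
      Nonempty (Extends (S.homOfLE (le_sup_left : W ≤ W ⊔ U.1)) A A') := by
  have : IsAffine (U.1 : Scheme.{u}) := U.2
  obtain ⟨d⟩ := Datum.exists_datum (S.homOfLE (le_sup_left : W ≤ W ⊔ U.1))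
    (S.homOfLE (le_sup_right : U.1 ≤ W ⊔ U.1)) A
    (isCompact_preimage_homOfLE _ _ hW U.2.isCompact)
    (isCompact_preimage_homOfLE _ _ U.2.isCompact hW)
  have hcov : ∀ x : ((W ⊔ U.1 : S.Opens) : Scheme.{u}),
      x ∈ Set.range (S.homOfLE (le_sup_left : W ≤ W ⊔ U.1)) ∨
        x ∈ Set.range (S.homOfLE (le_sup_right : U.1 ≤ W ⊔ U.1)) := by
    rintro ⟨x, hx⟩
    rcases Opens.mem_sup.mp hx with h | h
    · exact Or.inl ⟨⟨x, h⟩, Subtype.ext (by simp)⟩
    · exact Or.inr ⟨⟨x, h⟩, Subtype.ext (by simp)⟩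
  exact ⟨Step.approx d hcov, ⟨Step.ext d hcov⟩⟩

/-- Adding finitely many affine opens. -/
theorem exists_extends_list (V : S.Opens) (hV : IsCompact (V : Set S))
    (A : Approx (V : Scheme.{u})) (l : List S.affineOpens) :
    ∃ (W : S.Opens) (h : V ≤ W), IsCompact (W : Set S) ∧ (∀ U ∈ l, U.1 ≤ W) ∧
      ∃ A' : Approx (W : Scheme.{u}), Nonempty (Extends (S.homOfLE h) A A') := by
  induction l with
  | nil =>
    refine ⟨V, le_rfl, hV, fun U hU => (List.not_mem_nil hU).elim, A, ⟨?_⟩⟩
    rw [Scheme.homOfLE_rfl]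
    exact extendsRefl A
  | cons U l ih =>
    obtain ⟨W, h, hW, hl, A', ⟨e⟩⟩ := ih
    obtain ⟨A'', ⟨e'⟩⟩ := exists_step W hW U A'
    refine ⟨W ⊔ U.1, h.trans le_sup_left, ?_, ?_, A'', ⟨?_⟩⟩
    · rw [Opens.coe_sup]; exact hW.union U.2.isCompact
    · intro U' hU'
      rcases List.mem_cons.mp hU' with rfl | hU'
      · exact le_sup_right
      · exact (hl U' hU').trans le_sup_left
    · rw [← Scheme.homOfLE_homOfLE S h le_sup_left]
      exact e.trans e'

/-- Approximation relative to a quasi-compact open. -/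
theorem exists_extends [CompactSpace S] (V : S.Opens) (hV : IsCompact (V : Set S))
    (A : Approx (V : Scheme.{u})) : ∃ A' : Approx S, Nonempty (Extends V.ι A A') := by
  obtain ⟨s, hs, hsf, hs'⟩ := S.isBasis_affineOpens.exists_finite_of_isCompact (U := ⊤)
    isCompact_univ
  classical
  have : Fintype s := hsf.fintype
  let l : List S.affineOpens :=
    (Finset.univ : Finset s).toList.map fun U => (⟨U.1, hs U.2⟩ : S.affineOpens)
  obtain ⟨W, h, -, hl, A', ⟨e⟩⟩ := exists_extends_list V hV A l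
  obtain rfl : W = ⊤ := by
    refine top_le_iff.mp (hs'.trans_le (sSup_le fun U hU => ?_))
    exact hl ⟨U, hs hU⟩ (List.mem_map.mpr ⟨⟨U, hU⟩, Finset.mem_toList.mpr (Finset.mem_univ _), rfl⟩)
  exact ⟨ofIso A' S.topIso, ⟨extendsOfIso e S.topIso V.ι (by simp)⟩⟩

omit [QuasiSeparatedSpace S] in
/-- The empty scheme has an approximation. -/
theorem nonempty_approx_of_isEmpty [IsEmpty S] : Nonempty (Approx S) := by
  let D : (PUnit.{u+1})ᵒᵖ ⥤ Scheme.{u} := (Functor.const _).obj S
  refine ⟨{
    I := PUnit.{u+1}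
    D := D
    affine := fun a => inferInstanceAs (IsAffineHom (𝟙 S))
    compact := fun i => inferInstanceAs (CompactSpace S)
    lft := fun i => ?_
    π := 𝟙 _
    isLimit := ?_ }⟩
  · show LocallyOfFiniteType (IsTerminal.from specULiftZIsTerminal S)
    infer_instance
  · exact { lift := fun s => s.π.app (op PUnit.unit)
            fac := fun s j => Category.comp_id _
            uniq := fun s m hm => (Category.comp_id m).symm.trans (hm (op PUnit.unit)) }

/-- Every qcqs scheme has an approximation. -/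
theorem exists_approx [CompactSpace S] : Nonempty (Approx S) := by
  have : IsEmpty ((⊥ : S.Opens) : Scheme.{u}) := ⟨fun x => x.2⟩
  obtain ⟨A₀⟩ := nonempty_approx_of_isEmpty (S := ((⊥ : S.Opens) : Scheme.{u}))
  obtain ⟨A, -⟩ := exists_extends (⊥ : S.Opens) (by simp) A₀
  exact ⟨A⟩

end Groth.Agent.Lib.Lim.Approx.Main
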