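import Groth.Agent.Lib.Lim.Approx.Rel
import Mathlib.AlgebraicGeometry.IdealSheaf.Functorial

/-!
# An integral morphism is a limit of finite morphisms of finite presentation
-/

set_option autoImplicit false
universe u
open CategoryTheory Limits AlgebraicGeometry Opposite TopologicalSpace
open Groth.Agent.Lib.Lim

namespace Groth.Agent.Lib.Lim.Approx.Integral

set_option backward.isDefEq.respectTransparency false

/-- The scheme-theoretic image of an integral scheme in an affine one is integral. -/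
lemma isIntegralHom_image {X Y S : Scheme.{u}} (e : X ⟶ Y) [QuasiCompact e] (t : Y ⟶ S)
    [IsAffineHom t] [IsIntegralHom (e ≫ t)] : IsIntegralHom (e.imageι ≫ t) := by
  refine IsIntegralHom.mk fun U hU a => ?_
  let U' : Y.affineOpens := ⟨t ⁻¹ᵁ U, hU.preimage t⟩
  have : IsIntegralHom (e.toImage ≫ e.imageι ≫ t) := by
    rw [Scheme.Hom.toImage_imageι_assoc]; infer_instance
  obtain ⟨p, hp, hpa⟩ := IsIntegralHom.isIntegral_app (e.toImage ≫ e.imageι ≫ t) U hU
    (e.toImage.app ((e.imageι ≫ t) ⁻¹ᵁ U) a)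
  refine ⟨p, hp, Scheme.Hom.toImage_app_injective e U' ?_⟩
  rw [map_zero]
  show e.toImage.app ((e.imageι ≫ t) ⁻¹ᵁ U) (p.eval₂ ((e.imageι ≫ t).app U).hom a) = 0
  rw [Polynomial.hom_eval₂, ← CommRingCat.hom_comp, ← Scheme.Hom.comp_app]
  exact hpa

lemma ker_comp_le {X Y Z : Scheme.{u}} (e : X ⟶ Y) [QuasiCompact e] (tr : Y ⟶ Z) [IsAffineHom tr] :
    (e ≫ tr).ker ≤ (e.imageι ≫ tr).ker := by
  intro U s hs
  rw [Scheme.Hom.ker_apply, RingHom.mem_ker] at hs ⊢
  rw [Scheme.Hom.comp_app, CommRingCat.comp_apply] at hs ⊢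
  apply Scheme.Hom.toImage_app_injective e ⟨tr ⁻¹ᵁ U.1, U.2.preimage tr⟩
  refine Eq.trans ?_ (map_zero _).symm
  have h2 := congr($(Scheme.Hom.congr_app e.toImage_imageι (tr ⁻¹ᵁ U.1)) (tr.app U.1 s))
  rw [Scheme.Hom.comp_app, CommRingCat.comp_apply, CommRingCat.comp_apply] at h2
  exact h2.trans ((congrArg _ hs).trans (map_zero _))

lemma ker_fg {A B : Type u} [CommRing A] [CommRing B] (φ : A →+* B) (hs : Function.Surjective φ)
    (h : φ.FinitePresentation) : (RingHom.ker φ).FG := by
  algebraize [φ]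
  exact Algebra.FinitePresentation.ker_fG_of_surjective (Algebra.ofId A B) hs

lemma isFG_ker_of_lfp {X Y : Scheme.{u}} (f : X ⟶ Y) [IsClosedImmersion f]
    [LocallyOfFinitePresentation f] : IdealExt.IsFG f.ker := by
  intro U
  rw [Scheme.Hom.ker_apply]
  have h := HasRingHomProperty.appLE @LocallyOfFinitePresentation f inferInstance U
    ⟨f ⁻¹ᵁ U.1, U.2.preimage f⟩ le_rfl
  rw [← Scheme.Hom.app_eq_appLE] at h
  exact Groth.Agent.Lib.Lim.Approx.Integral.ker_fg (f.app U.1).hom (f.app_surjective U.1 U.2) h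

lemma isFG_comap {X Y : Scheme.{u}} (f : X ⟶ Y) (J : Y.IdealSheafData) (hJ : IdealExt.IsFG J) :
    IdealExt.IsFG (J.comap f) := by
  have := IdealFP.lfp_subschemeι J hJ
  exact isFG_ker_of_lfp (pullback.fst f J.subschemeι)

variable {X S : Scheme.{u}} {f : X ⟶ S} (R : Rel.RelApprox f) (i₁ : R.K)

/-- A finite stage: an affine stage and a finitely presented closed subscheme finite over the base. -/
structure Idx where
  k : {k : R.K // i₁ ≤ k}
  J : IdealExt.FGSub (R.π.app (op k.1)).ker
  fin : IsFinite (J.1.subschemeι ≫ R.t.app (op k.1))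

/-- The transition map of stages. -/
abbrev tr {k k' : R.K} (h : k ≤ k') : R.D.obj (op k') ⟶ R.D.obj (op k) := R.D.map (homOfLE h).op

instance preorder : Preorder (Idx R i₁) where
  le a b := ∃ h : a.k.1 ≤ b.k.1, a.J.1 ≤ (b.J.1.subschemeι ≫ tr R h).ker
  le_refl a := ⟨le_rfl, by
    rw [show tr R (le_refl a.k.1) = 𝟙 _ from R.D.map_id _, Category.comp_id,
      Scheme.IdealSheafData.ker_subschemeι]⟩
  le_trans a b c hab hbc := by
    obtain ⟨h, hJ⟩ := hab
    obtain ⟨h', hJ'⟩ := hbc
    refine ⟨h.trans h', hJ.trans ?_⟩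
    have e : c.J.1.subschemeι ≫ tr R (h.trans h') =
        IsClosedImmersion.lift b.J.1.subschemeι (c.J.1.subschemeι ≫ tr R h')
          (by rwa [Scheme.IdealSheafData.ker_subschemeι]) ≫ b.J.1.subschemeι ≫ tr R h := by
      rw [IsClosedImmersion.lift_fac_assoc, tr, tr, tr, Category.assoc, ← R.D.map_comp]
      rfl
    rw [e]
    exact Scheme.Hom.le_ker_comp _ _

variable [CompactSpace S] [QuasiSeparatedSpace S] [IsIntegralHom f]
  (hi₁ : ∀ k : {k : R.K // i₁ ≤ k}, IsAffineHom (R.t.app (op k.1)))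

include hi₁ in
/-- Every affine stage has a finite closed subscheme containing any given one. -/
theorem exists_idx (k : {k : R.K // i₁ ≤ k}) (J₀ : IdealExt.FGSub (R.π.app (op k.1)).ker) :
    ∃ J : IdealExt.FGSub (R.π.app (op k.1)).ker,
      IsFinite (J.1.subschemeι ≫ R.t.app (op k.1)) ∧ J₀.1 ≤ J.1 := by
  let e := R.π.app (op k.1)
  have := hi₁ k
  let t : IdealExt.subDiagram e.ker ⟶ (Functor.const _).obj S :=
    IdealExt.subDiagramι e.ker ≫ (Functor.const _).map (R.t.app (op k.1))
  have : ∀ J, LocallyOfFiniteType (t.app J) := fun J =>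
    inferInstanceAs (LocallyOfFiniteType (J.unop.1.subschemeι ≫ R.t.app (op k.1)))
  have : QuasiCompact e := have := isAffineHom_π_app R.D R.cone R.isLimit (op k.1); inferInstance
  let J₁ : (IdealExt.FGSub e.ker)ᵒᵖ := op J₀
  have h1 : IsIntegralHom ((IdealExt.subCone e.ker).π.app J₁ ≫ t.app J₁) := by
    have h2 : (IdealExt.subCone e.ker).π.app J₁ ≫ J₁.unop.1.subschemeι = e.imageι := by
      simp [IdealExt.subCone]
    show IsIntegralHom (_ ≫ J₁.unop.1.subschemeι ≫ R.t.app (op k.1))
    rw [← Category.assoc, h2]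
    have : IsIntegralHom (e ≫ R.t.app (op k.1)) := by rw [R.w]; infer_instance
    exact isIntegralHom_image e _
  have : ∀ i j (a : i ⟶ j), IsFinite ((IdealExt.subDiagram e.ker).map a) := fun i j a => by
    dsimp [IdealExt.subDiagram]; infer_instance
  obtain ⟨J₂, hJ₂⟩ := Eventual.exists_isFinite t (IdealExt.isLimitSubCone e.ker) J₁
  obtain ⟨J, hJ₀, hJ⟩ := exists_ge_ge J₀ J₂.unop
  exact ⟨J, hJ₂ (op J) (homOfLE hJ).op, hJ₀⟩

include hi₁ in
theorem isDirected : IsDirected (Idx R i₁) (fun a b => a ≤ b) := by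
  classical
  refine ⟨fun a b => ?_⟩
  obtain ⟨k, hk, hk'⟩ := exists_ge_ge a.k.1 b.k.1
  let K : {k : R.K // i₁ ≤ k} := ⟨k, a.k.2.trans hk⟩
  have hcomap : ∀ (c : Idx R i₁) (h : c.k.1 ≤ k),
      c.J.1.comap (tr R h) ≤ (R.π.app (op k)).ker := by
    intro c h
    refine Scheme.IdealSheafData.le_map_iff_comap_le.mp ?_
    refine le_trans ?_ (le_of_eq (show (R.π.app (op c.k.1)).ker = _ from ?_))
    · exact c.J.2.1
    · have : QuasiCompact (R.π.app (op k)) :=
        have := isAffineHom_π_app R.D R.cone R.isLimit (op k); inferInstance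
      rw [← R.cone.w (homOfLE h).op]
      refine le_antisymm ?_ ?_
      · rw [Scheme.IdealSheafData.map]
        exact ker_comp_le (R.π.app (op k)) (tr R h)
      · show _ ≤ (R.π.app (op k) ≫ tr R h).ker
        rw [Scheme.IdealSheafData.map,
          ← Scheme.Hom.toImage_imageι (R.π.app (op k)), Category.assoc,
          Scheme.Hom.toImage_imageι]
        exact Scheme.Hom.le_ker_comp _ _
  obtain ⟨J, hc, hJ⟩ := exists_idx R i₁ hi₁ K
    ⟨a.J.1.comap (tr R hk) ⊔ b.J.1.comap (tr R hk'), sup_le (hcomap a hk) (hcomap b hk'),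
      IdealExt.isFG_sup (isFG_comap _ _ a.J.2.2) (isFG_comap _ _ b.J.2.2)⟩
  refine ⟨⟨K, J, hc⟩, ⟨hk, ?_⟩, ⟨hk', ?_⟩⟩
  · exact Scheme.IdealSheafData.le_map_iff_comap_le.mpr (le_sup_left.trans hJ)
  · exact Scheme.IdealSheafData.le_map_iff_comap_le.mpr (le_sup_right.trans hJ)

/-- The scheme of a stage. -/
noncomputable abbrev obj (a : Idx R i₁) : Scheme.{u} := a.J.1.subscheme

/-- The transition of stages. -/
noncomputable def map {a b : Idx R i₁} (h : a ≤ b) : obj R i₁ b ⟶ obj R i₁ a :=
  IsClosedImmersion.lift a.J.1.subschemeι (b.J.1.subschemeι ≫ tr R h.choose)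
    (by rw [Scheme.IdealSheafData.ker_subschemeι]; exact h.choose_spec)

@[reassoc]
lemma map_ι {a b : Idx R i₁} (h : a ≤ b) :
    map R i₁ h ≫ a.J.1.subschemeι = b.J.1.subschemeι ≫ tr R h.choose :=
  IsClosedImmersion.lift_fac _ _ _

/-- The system of finite stages. -/
noncomputable def D : (Idx R i₁)ᵒᵖ ⥤ Scheme.{u} where
  obj a := obj R i₁ a.unop
  map g := map R i₁ (leOfHom g.unop)
  map_id a := by
    rw [← cancel_mono a.unop.J.1.subschemeι, map_ι, Category.id_comp]
    exact (congrArg (_ ≫ ·) (R.D.map_id _)).trans (Category.comp_id _)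
  map_comp {a b c} g g' := by
    rw [← cancel_mono c.unop.J.1.subschemeι, Category.assoc, map_ι, map_ι,
      ← Category.assoc (map R i₁ (leOfHom g.unop)), map_ι, Category.assoc, ← R.D.map_comp]
    rfl

/-- The structure maps of the finite stages. -/
noncomputable def t : D R i₁ ⟶ (Functor.const _).obj S where
  app a := a.unop.J.1.subschemeι ≫ R.t.app (op a.unop.k.1)
  naturality a b g := by
    refine Eq.trans ?_ (Category.comp_id _).symm
    rw [← Category.assoc]
    refine (congrArg (· ≫ R.t.app _) (map_ι R i₁ (leOfHom g.unop))).trans ?_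
    rw [Category.assoc]
    exact congrArg (_ ≫ ·) ((R.t.naturality _).trans (Category.comp_id _))

lemma ker_le (a : Idx R i₁) :
    a.J.1.subschemeι.ker ≤ (R.π.app (op a.k.1)).ker := by
  rw [Scheme.IdealSheafData.ker_subschemeι]; exact a.J.2.1

/-- The projection to a stage. -/
noncomputable def pr (a : Idx R i₁) : X ⟶ obj R i₁ a :=
  IsClosedImmersion.lift a.J.1.subschemeι (R.π.app (op a.k.1)) (ker_le R i₁ a)

@[reassoc]
lemma pr_ι (a : Idx R i₁) : pr R i₁ a ≫ a.J.1.subschemeι = R.π.app (op a.k.1) :=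
  IsClosedImmersion.lift_fac _ _ _

/-- The cone of `X` over the finite stages. -/
noncomputable def π : (Functor.const _).obj X ⟶ D R i₁ where
  app a := pr R i₁ a.unop
  naturality a b g := by
    refine (Category.id_comp _).trans ?_
    rw [← cancel_mono b.unop.J.1.subschemeι, pr_ι, Category.assoc]
    refine Eq.symm ((congrArg (_ ≫ ·) (map_ι R i₁ (leOfHom g.unop))).trans ?_)
    rw [← Category.assoc, pr_ι]
    exact R.cone.w _

include hi₁ in
theorem nonempty_isLimit : Nonempty (IsLimit (Cone.mk X (π R i₁))) := by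
  have hdir := isDirected R i₁ hi₁
  let R' := R.tail i₁
  have key : ∀ s : Cone (D R i₁), ∃! g : s.pt ⟶ X, ∀ a, g ≫ pr R i₁ a.unop = s.π.app a := by
    intro s
    have hex := fun k => exists_idx R i₁ hi₁ k ⟨⊥, bot_le, IdealExt.isFG_bot⟩
    choose Jk hJk _ using hex
    let ak : {k : R.K // i₁ ≤ k} → Idx R i₁ := fun k => ⟨k, Jk k, hJk k⟩
    let h : ∀ k : {k : R.K // i₁ ≤ k}, s.pt ⟶ R.D.obj (op k.1) := fun k =>
      s.π.app (op (ak k)) ≫ (Jk k).1.subschemeι
    have hind : ∀ (a : Idx R i₁) (k : {k : R.K // i₁ ≤ k}) (hk : k.1 ≤ a.k.1),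
        s.π.app (op a) ≫ a.J.1.subschemeι ≫ tr R hk = h k := by
      intro a k hk
      obtain ⟨c, hca, hcb⟩ := hdir.directed a (ak k)
      rw [← s.w (homOfLE hca).op]
      show (s.π.app (op c) ≫ map R i₁ hca) ≫ _ = s.π.app (op (ak k)) ≫ _
      rw [← s.w (homOfLE hcb).op]
      show _ = (s.π.app (op c) ≫ map R i₁ hcb) ≫ _
      rw [Category.assoc, Category.assoc, map_ι_assoc]
      refine Eq.trans ?_ (congrArg (_ ≫ ·) (map_ι R i₁ hcb)).symm
      congr 1
      congr 1
      rw [tr, tr, tr, ← R.D.map_comp]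
      rfl
    let sk : Cone R'.D :=
      { pt := s.pt
        π :=
          { app := fun k => h k.unop
            naturality := fun k k' g => by
              refine (Category.id_comp _).trans ?_
              have hle : k'.unop.1 ≤ k.unop.1 := leOfHom g.unop
              rw [← hind (ak k.unop) k'.unop hle]
              exact (Category.assoc _ _ _).symm } }
    let g := R'.isLimit.lift sk
    have hg : ∀ k, g ≫ R.π.app (op k.1) = h k := fun k => R'.isLimit.fac sk (op k)
    refine ⟨g, fun a => ?_, fun g' hg' => R'.isLimit.hom_ext fun k => ?_⟩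
    · rw [← cancel_mono a.unop.J.1.subschemeι, Category.assoc, pr_ι, hg a.unop.k,
        ← hind a.unop a.unop.k le_rfl, show tr R (le_refl a.unop.k.1) = 𝟙 _ from R.D.map_id _,
        Category.comp_id]
    · show g' ≫ R.π.app (op k.unop.1) = g ≫ R.π.app (op k.unop.1)
      rw [hg]
      show _ = s.π.app (op (ak k.unop)) ≫ (Jk k.unop).1.subschemeι
      rw [← hg' (op (ak k.unop))]
      show g' ≫ R.π.app (op k.unop.1) = (g' ≫ pr R i₁ (ak k.unop)) ≫ (ak k.unop).J.1.subschemeι
      rw [Category.assoc, pr_ι]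
  exact ⟨{ lift := fun s => (key s).choose
           fac := fun s a => (key s).choose_spec.1 a
           uniq := fun s g hg => (key s).choose_spec.2 g hg }⟩

/-- An integral morphism to a qcqs scheme is a limit of finite morphisms of finite presentation. -/
theorem exists_finiteApprox {X S : Scheme.{u}} (f : X ⟶ S) [IsIntegralHom f] [CompactSpace S]
    [QuasiSeparatedSpace S] :
    ∃ R : Rel.RelApprox f, ∀ k, IsFinite (R.t.app k) := by
  have : CompactSpace X := QuasiCompact.compactSpace_of_compactSpace f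
  have : QuasiSeparatedSpace X := quasiSeparatedSpace_of_quasiSeparated f
  obtain ⟨R⟩ := Rel.exists_relApprox f
  obtain ⟨k⟩ := R.ne
  have : IsAffineHom (R.cone.π.app (op k) ≫ R.t.app (op k)) := by rw [R.w]; infer_instance
  obtain ⟨i, -, hi⟩ := Eventual.exists_isAffineHom R.t R.isLimit (op k)
  have hi₁ : ∀ m : {m : R.K // i.unop ≤ m}, IsAffineHom (R.t.app (op m.1)) := fun m =>
    hi _ (homOfLE m.2).op
  have : IsDirected (Idx R i.unop) (fun a b => a ≤ b) := isDirected R i.unop hi₁
  have : Nonempty (Idx R i.unop) :=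
    let ⟨J, hJ, _⟩ := exists_idx R i.unop hi₁ ⟨i.unop, le_rfl⟩ ⟨⊥, bot_le, IdealExt.isFG_bot⟩
    ⟨⟨⟨i.unop, le_rfl⟩, J, hJ⟩⟩
  have hfin : ∀ a, IsFinite ((t R i.unop).app a) := fun a => a.unop.fin
  refine ⟨{
    K := Idx R i.unop
    D := D R i.unop
    t := t R i.unop
    π := π R i.unop
    w := fun a => by
      show pr R i.unop a.unop ≫ a.unop.J.1.subschemeι ≫ R.t.app _ = f
      rw [pr_ι_assoc]
      exact R.w _
    isLimit := (nonempty_isLimit R i.unop hi₁).some
    affine := fun {a b} g => by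
      have : IsAffineHom ((D R i.unop).map g ≫ (t R i.unop).app b) := by
        rw [(t R i.unop).naturality g]
        have : IsAffineHom ((t R i.unop).app a) := (hfin a).toIsAffineHom
        exact inferInstanceAs (IsAffineHom ((t R i.unop).app a ≫ 𝟙 _))
      have := hfin b
      exact IsAffineHom.of_comp _ ((t R i.unop).app b)
    compact := fun a => QuasiCompact.compactSpace_of_compactSpace a.unop.J.1.subschemeι
    quasiSep := fun a => quasiSeparatedSpace_of_quasiSeparated a.unop.J.1.subschemeι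
    lfp := fun a => by
      have := IdealFP.lfp_subschemeι a.unop.J.1 a.unop.J.2.2
      exact inferInstanceAs
        (LocallyOfFinitePresentation (a.unop.J.1.subschemeι ≫ R.t.app (op a.unop.k.1)))
    qc := fun a => have := hfin a; inferInstance
    qs := fun a => have := hfin a; inferInstance }, hfin⟩

end Groth.Agent.Lib.Lim.Approx.Integral
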