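import Groth.Agent.Lib.Lim.Approx.Index

/-!
# The affine parts of the stages of an approximation step
-/

set_option autoImplicit false
universe u
open CategoryTheory Limits AlgebraicGeometry Opposite TopologicalSpace
open Groth.Agent.Lib.Lim.Approx.Basic Groth.Agent.Lib.Lim.Approx.Ring
open Groth.Agent.Lib.Lim.Approx.Index

namespace Groth.Agent.Lib.Lim.Approx.Affines

set_option backward.isDefEq.respectTransparency false

variable {T V U : Scheme.{u}} {jV : V ⟶ T} {jU : U ⟶ T} [IsOpenImmersion jV] [IsOpenImmersion jU]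
  {A : Approx V} (d : Datum jV jU A)

/-- The open subscheme `Wᵢ` of a stage. -/
abbrev Wj (j : Stage d) : Scheme.{u} := (d.Wi j.i : Scheme.{u})

/-- The ring of a stage. -/
abbrev R (j : Stage d) : CommRingCat.{u} := CommRingCat.of j.P

/-- `Spec` of the ring of a stage. -/
noncomputable abbrev Y (j : Stage d) : Scheme.{u} := Spec (R d j)

/-- The second projection. -/
noncomputable def φ (j : Stage d) : R d j ⟶ Γ(Wj d j, ⊤) :=
  CommRingCat.ofHom ((RingHom.snd _ _).comp j.P.subtype)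

/-- The first projection. -/
noncomputable def ψ (j : Stage d) : R d j ⟶ Γ(U, ⊤) :=
  CommRingCat.ofHom ((RingHom.fst _ _).comp j.P.subtype)

/-- The transition of rings. -/
noncomputable def τ {j j' : Stage d} (h : j ≤ j') : R d j ⟶ R d j' :=
  CommRingCat.ofHom (((rho d (le_i d h)).comp j.P.subtype).codRestrict j'.P
    (fun p => rho_mem_P d h p.2))

lemma τ_self (j : Stage d) : τ d (le_refl j) = 𝟙 _ := by
  refine CommRingCat.hom_ext (RingHom.ext fun p => Subtype.ext ?_)
  exact rho_self d p.1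

lemma τ_comp {j j' j'' : Stage d} (h : j ≤ j') (h' : j' ≤ j'') :
    τ d h ≫ τ d h' = τ d (h.trans h') := by
  refine CommRingCat.hom_ext (RingHom.ext fun p => Subtype.ext ?_)
  exact rho_rho d (le_i d h) (le_i d h') p.1

lemma τ_ψ {j j' : Stage d} (h : j ≤ j') : τ d h ≫ ψ d j' = ψ d j := rfl

lemma τ_φ {j j' : Stage d} (h : j ≤ j') :
    τ d h ≫ φ d j' = φ d j ≫ (d.r (le_i d h)).appTop := rfl

/-- The distinguished elements of the ring of a stage. -/
noncomputable def ell (j : Stage d) (k : Fin d.n) : R d j := ⟨d.el j.i k, j.mem k⟩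

lemma τ_ell {j j' : Stage d} (h : j ≤ j') (k : Fin d.n) : τ d h (ell d j k) = ell d j' k :=
  Subtype.ext (rho_el d (le_i d h) k)

/-- The open immersion `Wᵢ ⟶ Spec P`. -/
noncomputable def u (j : Stage d) : Wj d j ⟶ Y d j := Local.toSpec (φ d j)

/-- `U ⟶ Spec P`. -/
noncomputable def σ (j : Stage d) : U ⟶ Y d j := Local.toSpec (ψ d j)

lemma w_u (j : Stage d) : d.w j.i ≫ u d j = d.a ≫ σ d j := by
  rw [u, σ, Local.toSpec, Local.toSpec, Scheme.toSpecΓ_naturality_assoc,
    Scheme.toSpecΓ_naturality_assoc, ← Spec.map_comp, ← Spec.map_comp]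
  congr 2
  ext p
  exact (d.mem_B.mp (j.le p.2)).symm

lemma r_u {j j' : Stage d} (h : j ≤ j') :
    d.r (le_i d h) ≫ u d j = u d j' ≫ Spec.map (τ d h) := by
  rw [u, u, Local.toSpec, Local.toSpec, Scheme.toSpecΓ_naturality_assoc, ← Spec.map_comp,
    Category.assoc, ← Spec.map_comp, τ_φ]

lemma σ_tr {j j' : Stage d} (h : j ≤ j') : σ d j' ≫ Spec.map (τ d h) = σ d j := by
  rw [σ, σ, Local.toSpec, Local.toSpec, Category.assoc, ← Spec.map_comp, τ_ψ]

variable [IsAffine U]

omit [IsAffine U] in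
lemma preimage_u (j : Stage d) (k : Fin d.n) :
    u d j ⁻¹ᵁ PrimeSpectrum.basicOpen (ell d j k) =
      (Wj d j).basicOpen (d.gi j.i k) := Local.preimage_toSpec (φ d j) _

lemma isOpen_u_and_range (j : Stage d) : IsOpenImmersion (u d j) ∧
    ∀ k (y : Y d j), y ∈ PrimeSpectrum.basicOpen (ell d j k) → y ∈ Set.range (u d j) := by
  refine Local.isOpenImmersion_toSpec (φ d j) (ell d j) (fun k => d.affine_gi j.i k)
    (fun x => d.cover_gi j.i x) (fun k p hp => ?_) (fun k x => j.gen k x)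
  have hp' : p.1.2 = 0 := hp
  obtain ⟨m, hm⟩ := d.eq_zero_of_a_eq_zero k (x := p.1.1) (by
    rw [d.mem_B.mp (j.le p.2), hp', map_zero])
  refine ⟨m, Subtype.ext (Prod.ext hm ?_)⟩
  show d.gi j.i k ^ m * p.1.2 = 0
  rw [hp', mul_zero]

instance isOpenImmersion_u (j : Stage d) : IsOpenImmersion (u d j) := (isOpen_u_and_range d j).1

omit [IsAffine U] in
lemma range_u_subset (j : Stage d) {y : Y d j} (hy : y ∈ Set.range (u d j)) :
    ∃ k, y ∈ PrimeSpectrum.basicOpen (ell d j k) := by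
  obtain ⟨w, rfl⟩ := hy
  obtain ⟨k, hk⟩ := d.cover_gi j.i w
  exact ⟨k, (preimage_u d j k).ge hk⟩

lemma preimage_range_u {j j' : Stage d} (h : j ≤ j') {y : Y d j'}
    (hy : Spec.map (τ d h) y ∈ Set.range (u d j)) : y ∈ Set.range (u d j') := by
  obtain ⟨k, hk⟩ := range_u_subset d j hy
  refine (isOpen_u_and_range d j').2 k y ?_
  have : τ d h (ell d j k) ∉ y.asIdeal := hk
  rwa [τ_ell] at this

omit [IsAffine U] in
lemma σ_mem_range (j : Stage d) {x : U} (hx : σ d j x ∈ Set.range (u d j)) :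
    x ∈ Set.range d.a := by
  obtain ⟨k, hk⟩ := range_u_subset d j hx
  refine d.f_le k d.a d.a_jU ?_
  exact (Local.preimage_toSpec (ψ d j) (ell d j k)).le hk

omit [IsAffine U] in
lemma finiteType_int (j : Stage d) :
    (algebraMap ℤ (R d j)).FiniteType := by
  classical
  obtain ⟨E, hE⟩ := j.fg
  rw [RingHom.finiteType_algebraMap]
  have hEP : ∀ p ∈ E, p ∈ j.P := fun p hp => hE ▸ Subring.subset_closure hp
  refine ⟨⟨E.attach.image (fun p => (⟨p.1, hEP p.1 p.2⟩ : j.P)), top_le_iff.mp fun x _ => ?_⟩⟩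
  obtain ⟨x, hx⟩ := x
  have hx' : x ∈ Subring.closure (E : Set (Γ(U, ⊤) × Γ(Wj d j, ⊤))) := hE.ge hx
  induction hx' using Subring.closure_induction with
  | mem y hy =>
    exact Algebra.subset_adjoin (Finset.mem_image_of_mem _ (Finset.mem_attach _ ⟨y, hy⟩))
  | zero => exact (Algebra.adjoin ℤ _).zero_mem
  | one => exact (Algebra.adjoin ℤ _).one_mem
  | add y z hy hz hy' hz' =>
    exact (Algebra.adjoin ℤ _).add_mem (hy' (hE.le hy) trivial) (hz' (hE.le hz) trivial)
  | neg y hy hy' => exact (Algebra.adjoin ℤ _).neg_mem (hy' (hE.le hy) trivial)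
  | mul y z hy hz hy' hz' =>
    exact (Algebra.adjoin ℤ _).mul_mem (hy' (hE.le hy) trivial) (hz' (hE.le hz) trivial)

omit [IsAffine U] in
lemma lft_Y (j : Stage d) :
    LocallyOfFiniteType (IsTerminal.from specULiftZIsTerminal (Y d j)) := by
  have e : IsTerminal.from specULiftZIsTerminal (Y d j) =
      Spec.map (CommRingCat.ofHom ((algebraMap ℤ (R d j)).comp
        (ULift.ringEquiv (R := ℤ)).toRingHom)) := specULiftZIsTerminal.hom_ext _ _
  rw [e, HasRingHomProperty.Spec_iff (P := @LocallyOfFiniteType)]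
  exact (finiteType_int d j).comp
    (RingHom.FiniteType.of_surjective _ (ULift.ringEquiv (R := ℤ)).surjective)

end Groth.Agent.Lib.Lim.Approx.Affines
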