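import Mathlib.AlgebraicGeometry.AffineTransitionLimit
import Mathlib.AlgebraicGeometry.Noetherian

/-!
# Approximations of a scheme by schemes of finite type over `ℤ`

`Approx X`: a directed system of finite type `ℤ`-schemes with affine transition maps and limit `X`.
`Extends j AV AX`: the system `AX` of `X` induces, on the open subscheme `j : V ⟶ X`, members of
the system `AV` of `V`.
-/

set_option autoImplicit false
universe u
open CategoryTheory Limits AlgebraicGeometry Opposite

namespace Groth.Agent.Lib.Lim.Approx.Basic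

set_option backward.isDefEq.respectTransparency false

/-- A directed system of finite type `ℤ`-schemes with affine transition maps. -/
structure Sys where
  I : Type u
  [pre : Preorder I]
  [dir : IsDirected I (fun a b => a ≤ b)]
  [ne : Nonempty I]
  D : Iᵒᵖ ⥤ Scheme.{u}
  affine : ∀ {i j : Iᵒᵖ} (a : i ⟶ j), IsAffineHom (D.map a)
  compact : ∀ i, CompactSpace (D.obj i)
  lft : ∀ i, LocallyOfFiniteType (IsTerminal.from specULiftZIsTerminal (D.obj i))

attribute [instance] Sys.pre Sys.dir Sys.ne Sys.compact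

namespace Sys

variable (S : Sys.{u})

instance isAffineHom_map {i j : S.Iᵒᵖ} (a : i ⟶ j) : IsAffineHom (S.D.map a) := S.affine a

instance locallyOfFiniteType (i : S.Iᵒᵖ) :
    LocallyOfFiniteType (IsTerminal.from specULiftZIsTerminal (S.D.obj i)) := S.lft i

instance isCofiltered : IsCofiltered S.Iᵒᵖ :=
  have : IsFiltered S.I := isFiltered_of_directed_le_nonempty S.I
  inferInstance

lemma isNoetherianRing_ulift : IsNoetherianRing (ULift.{u} ℤ) :=
  isNoetherianRing_of_ringEquiv ℤ ULift.ringEquiv.symm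

instance isLocallyNoetherian (i : S.Iᵒᵖ) : IsLocallyNoetherian (S.D.obj i) :=
  have := isNoetherianRing_ulift.{u}
  LocallyOfFiniteType.isLocallyNoetherian (IsTerminal.from specULiftZIsTerminal (S.D.obj i))

instance quasiSeparatedSpace (i : S.Iᵒᵖ) : QuasiSeparatedSpace (S.D.obj i) := inferInstance

/-- The transition map. -/
abbrev tr {i i' : S.I} (h : i ≤ i') : S.D.obj (op i') ⟶ S.D.obj (op i) := S.D.map (homOfLE h).op

lemma tr_comp {i i' i'' : S.I} (h : i ≤ i') (h' : i' ≤ i'') :
    S.tr h' ≫ S.tr h = S.tr (h.trans h') := by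
  rw [tr, tr, ← S.D.map_comp]; rfl

lemma tr_self (i : S.I) : S.tr (le_refl i) = 𝟙 _ := S.D.map_id _

end Sys

/-- A presentation of `X` as the limit of a system. -/
structure Approx (X : Scheme.{u}) extends Sys.{u} where
  π : (Functor.const _).obj X ⟶ D
  isLimit : IsLimit (Cone.mk X π)

namespace Approx

variable {X : Scheme.{u}} (A : Approx X)

/-- The limit cone. -/
abbrev cone : Cone A.D := Cone.mk X A.π

/-- The projection. -/
abbrev pr (i : A.I) : X ⟶ A.D.obj (op i) := A.π.app (op i)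

lemma pr_tr {i i' : A.I} (h : i ≤ i') : A.pr i' ≫ A.tr h = A.pr i := A.cone.w (homOfLE h).op

lemma exists_ge (A : Approx X) (i i' : A.I) : ∃ k, i ≤ k ∧ i' ≤ k := exists_ge_ge i i'

end Approx

/-- `AX` induces members of the system `AV` on the open subscheme `V`. -/
structure Extends {X V : Scheme.{u}} (j : V ⟶ X) (AV : Approx V) (AX : Approx X) where
  α : AX.I →o AV.I
  ι : ∀ k : AX.I, AV.D.obj (op (α k)) ⟶ AX.D.obj (op k)
  isOpen : ∀ k, IsOpenImmersion (ι k)
  w : ∀ {k k' : AX.I} (h : k ≤ k'), AV.tr (α.monotone h) ≫ ι k = ι k' ≫ AX.tr h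
  pre : ∀ {k k' : AX.I} (h : k ≤ k'), AX.tr h ⁻¹' Set.range (ι k) ⊆ Set.range (ι k')
  π_w : ∀ k, j ≫ AX.pr k = AV.pr (α k) ≫ ι k
  pre_π : ∀ k, AX.pr k ⁻¹' Set.range (ι k) ⊆ Set.range j

attribute [instance] Extends.isOpen

/-- Composition of extensions. -/
noncomputable def Extends.trans {X W V : Scheme.{u}} {j : V ⟶ W} {j' : W ⟶ X} {AV : Approx V}
    {AW : Approx W} {AX : Approx X} (e : Extends j AV AW) (e' : Extends j' AW AX) :
    Extends (j ≫ j') AV AX where
  α := e.α.comp e'.α
  ι k := e.ι (e'.α k) ≫ e'.ι k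
  isOpen k := inferInstance
  w {k k'} h := by
    show AV.tr (e.α.monotone (e'.α.monotone h)) ≫ _ = _
    rw [← Category.assoc, e.w (e'.α.monotone h), Category.assoc, e'.w h]
    simp only [Category.assoc]
  pre {k k'} h x hx := by
    obtain ⟨y, hy⟩ := hx
    obtain ⟨x', rfl⟩ := e'.pre h (show AX.tr h x ∈ Set.range (e'.ι k) from ⟨e.ι (e'.α k) y, hy⟩)
    have : AW.tr (e'.α.monotone h) x' = e.ι (e'.α k) y := by
      apply (e'.ι k).isOpenEmbedding.injective
      rw [← Scheme.Hom.comp_apply, e'.w h]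
      exact hy.symm
    obtain ⟨z, rfl⟩ := e.pre (e'.α.monotone h) ⟨y, this.symm⟩
    exact ⟨z, rfl⟩
  π_w k := by
    rw [Category.assoc, e'.π_w, ← Category.assoc, e.π_w, Category.assoc]
    rfl
  pre_π k x hx := by
    obtain ⟨y, hy⟩ := hx
    obtain ⟨x', rfl⟩ := e'.pre_π k (show AX.pr k x ∈ Set.range (e'.ι k) from ⟨e.ι (e'.α k) y, hy⟩)
    have : AW.pr (e'.α k) x' = e.ι (e'.α k) y := by
      apply (e'.ι k).isOpenEmbedding.injective
      rw [← Scheme.Hom.comp_apply, ← e'.π_w k]
      exact hy.symm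
    obtain ⟨z, rfl⟩ := e.pre_π (e'.α k) ⟨y, this.symm⟩
    exact ⟨z, rfl⟩

end Groth.Agent.Lib.Lim.Approx.Basic
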