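import Mathlib.AlgebraicGeometry.Gluing
import Mathlib.AlgebraicGeometry.AffineTransitionLimit
import Mathlib.AlgebraicGeometry.Morphisms.Affine

/-!
# Gluing two schemes along an open
-/

set_option autoImplicit false
universe u
open CategoryTheory Limits AlgebraicGeometry TopologicalSpace

namespace Groth.Agent.Lib.Lim.Approx.Glue

set_option backward.isDefEq.respectTransparency false

/-- A morphism out of a scheme covered by two opens is given by compatible morphisms. -/
theorem exists_glue {T V U W Z : Scheme.{u}} (jV : V ⟶ T) (jU : U ⟶ T) [IsOpenImmersion jV]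
    [IsOpenImmersion jU] (hcov : ∀ x : T, x ∈ Set.range jV ∨ x ∈ Set.range jU)
    (b : W ⟶ V) (a : W ⟶ U) (hb : IsPullback b a jV jU) (p : V ⟶ Z) (q : U ⟶ Z)
    (h : b ≫ p = a ≫ q) : ∃ g : T ⟶ Z, jV ≫ g = p ∧ jU ≫ g = q := by
  let X : ULift.{u} Bool → Scheme.{u} := fun i => if i.down then V else U
  let F : ∀ i, X i ⟶ T := fun ⟨i⟩ => match i with | true => jV | false => jU
  let G : ∀ i, X i ⟶ Z := fun ⟨i⟩ => match i with | true => p | false => q
  have hF : ∀ i, IsOpenImmersion (F i) := by rintro ⟨_ | _⟩ <;> assumption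
  let O : ULift.{u} Bool → T.Opens := fun i => (F i).opensRange
  have hO : iSup O = ⊤ := top_le_iff.mp fun x _ => by
    rcases hcov x with hx | hx
    · exact Opens.mem_iSup.mpr ⟨⟨true⟩, hx⟩
    · exact Opens.mem_iSup.mpr ⟨⟨false⟩, hx⟩
  have main : ∀ (i j : ULift.{u} Bool) {P : Scheme.{u}} (s : P ⟶ X i) (t : P ⟶ X j),
      s ≫ F i = t ≫ F j → s ≫ G i = t ≫ G j := by
    have mixed : ∀ {P : Scheme.{u}} (s : P ⟶ V) (t : P ⟶ U), s ≫ jV = t ≫ jU →
        s ≫ p = t ≫ q := fun s t e => by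
      rw [← hb.lift_fst s t e, Category.assoc, h, ← Category.assoc, hb.lift_snd]
    rintro ⟨_ | _⟩ ⟨_ | _⟩ P s t e
    · obtain rfl : s = t := (cancel_mono jU).mp e
      rfl
    · exact (mixed t s e.symm).symm
    · exact mixed s t e
    · obtain rfl : s = t := (cancel_mono jV).mp e
      rfl
  let 𝒰 : T.OpenCover := T.openCoverOfIsOpenCover O hO
  let e : ∀ i, (O i : Scheme.{u}) ⟶ X i := fun i => (F i).isoOpensRange.inv
  have he : ∀ i, e i ≫ F i = (O i).ι := fun i => Scheme.Hom.isoOpensRange_inv_comp (F i)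
  let g := Scheme.Cover.glueMorphisms 𝒰 (fun (i : ULift.{u} Bool) => e i ≫ G i) (fun (i j : ULift.{u} Bool) => by
    have := main i j (pullback.fst (𝒰.f i) (𝒰.f j) ≫ e i)
      (pullback.snd (𝒰.f i) (𝒰.f j) ≫ e j)
      ((Category.assoc _ _ _).trans ((congrArg (_ ≫ ·) (he i)).trans (pullback.condition.trans
        ((congrArg (_ ≫ ·) (he j).symm).trans (Category.assoc _ _ _).symm))))
    exact (Category.assoc _ _ _).symm.trans (this.trans (Category.assoc _ _ _)))
  have hg : ∀ i : ULift.{u} Bool, F i ≫ g = G i := fun i => by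
    have hgi : (O i).ι ≫ g = e i ≫ G i := Scheme.Cover.ι_glueMorphisms 𝒰 _ _ i
    rw [← he i, Category.assoc] at hgi
    exact (cancel_epi (e i)).mp hgi
  exact ⟨g, hg ⟨true⟩, hg ⟨false⟩⟩

section Pushout

variable {W V U : Scheme.{u}} (a : W ⟶ V) (b : W ⟶ U) [IsOpenImmersion a] [IsOpenImmersion b]

instance isOpenImmersion_inl : IsOpenImmersion (pushout.inl a b) :=
  inferInstanceAs (IsOpenImmersion (colimit.ι (span a b) WalkingSpan.left))

instance isOpenImmersion_inr : IsOpenImmersion (pushout.inr a b) :=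
  inferInstanceAs (IsOpenImmersion (colimit.ι (span a b) WalkingSpan.right))

/-- The two opens cover the gluing. -/
lemma inl_or_inr (x : (pushout a b : Scheme.{u})) :
    x ∈ Set.range (pushout.inl a b) ∨ x ∈ Set.range (pushout.inr a b) := by
  obtain ⟨i, y, rfl⟩ := Scheme.IsLocallyDirected.ι_jointly_surjective (span a b) x
  rcases i with _ | ⟨_ | _⟩
  · refine Or.inl ⟨a y, ?_⟩
    rw [← colimit.w (span a b) WalkingSpan.Hom.fst]
    rfl
  · exact Or.inl ⟨y, rfl⟩
  · exact Or.inr ⟨y, rfl⟩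

/-- The two opens only meet along the glued open. -/
lemma exists_of_inl_eq_inr {v : V} {u : U} (h : pushout.inl a b v = pushout.inr a b u) :
    ∃ w : W, a w = v ∧ b w = u := by
  obtain ⟨k, fi, fj, w, h1, h2⟩ := (Scheme.IsLocallyDirected.ι_eq_ι_iff (span a b)
    (i := WalkingSpan.left) (j := WalkingSpan.right)).mp h
  rcases k with _ | ⟨_ | _⟩
  · cases fi; cases fj
    exact ⟨w, h1, h2⟩
  · cases fj
  · cases fi

end Pushout

end Groth.Agent.Lib.Lim.Approx.Glue
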