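import Groth.Agent.Lib.Lim.Approx.Main
import Mathlib.AlgebraicGeometry.Morphisms.Immersion
import Mathlib.AlgebraicGeometry.Morphisms.FinitePresentation

/-!
# A finite type morphism from a qcqs scheme immerses into a finitely presented one

No hypothesis on the base is needed: `X` immerses into `S ×_ℤ X_b` for a stage `X_b` of an
approximation of `X`.
-/

set_option autoImplicit false
universe u
open CategoryTheory Limits AlgebraicGeometry Opposite TopologicalSpace
open Groth.Agent.Lib.Lim.Approx.Basic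

namespace Groth.Agent.Lib.Lim.Approx.Immersion

set_option backward.isDefEq.respectTransparency false

variable {X S : Scheme.{u}} (f : X ⟶ S)

lemma appLE_eq {A B : Scheme.{u}} {p q : A ⟶ B} (h : p = q) (U : B.Opens) (V : A.Opens)
    (e : V ≤ p ⁻¹ᵁ U) (e' : V ≤ q ⁻¹ᵁ U) : p.appLE U V e = q.appLE U V e' := by
  subst h; rfl

lemma exists_ge_finset {J : Type u} [Preorder J] [Nonempty J] [IsDirected J (fun a b => a ≤ b)] (i₀ : J)
    {σ : Type u} [Finite σ] (i : σ → J) : ∃ k, i₀ ≤ k ∧ ∀ s, i s ≤ k := by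
  classical
  cases nonempty_fintype σ
  obtain ⟨k, hk⟩ := Finset.exists_le (insert i₀ (Finset.univ.image i))
  exact ⟨k, hk _ (Finset.mem_insert_self _ _),
    fun s => hk _ (Finset.mem_insert_of_mem (Finset.mem_image_of_mem _ (Finset.mem_univ s)))⟩

/-- A section over the preimage of an affine open comes from a stage. -/
lemma exists_section (AX : Approx X) {i : AX.I} {W : (AX.D.obj (op i)).Opens} (hW : IsAffineOpen W)
    {V : X.Opens} (hV : AX.pr i ⁻¹ᵁ W = V) (x : Γ(X, V)) :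
    ∃ (i' : AX.I) (h : i ≤ i') (t : Γ(AX.D.obj (op i'), AX.tr h ⁻¹ᵁ W)),
      (AX.pr i').appLE (AX.tr h ⁻¹ᵁ W) V
        (by rw [← Scheme.Hom.comp_preimage, AX.pr_tr, hV]) t = x := by
  subst hV
  have (j : Over (op i)) : IsAffine ((opensDiagram AX.D (op i) W).obj j) := hW.preimage _
  have (j : Over (op i)) : CompactSpace ((opensDiagram AX.D (op i) W).obj j) :=
    inferInstance
  have (j : Over (op i)) : QuasiSeparatedSpace ((opensDiagram AX.D (op i) W).obj j) :=
    inferInstance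
  obtain ⟨j, t, ht⟩ := exists_appTop_π_eq_of_isLimit (opensDiagram AX.D (op i) W) _
    (isLimitOpensCone AX.D AX.cone AX.isLimit (op i) W) ((AX.pr i ⁻¹ᵁ W).topIso.inv x)
  refine ⟨j.left.unop, leOfHom j.hom.unop,
    (AX.tr (leOfHom j.hom.unop) ⁻¹ᵁ W).topIso.hom t, ?_⟩
  have h2 := congrArg (AX.pr i ⁻¹ᵁ W).topIso.hom ht
  rw [← ConcreteCategory.comp_apply, Iso.inv_hom_id] at h2
  refine Eq.trans ?_ h2.symm
  show ((AX.tr (leOfHom j.hom.unop) ⁻¹ᵁ W).topIso.hom ≫ (AX.pr j.left.unop).appLE _ _ _) t =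
    (((AX.pr j.left.unop).resLE (AX.tr (leOfHom j.hom.unop) ⁻¹ᵁ W) (AX.pr i ⁻¹ᵁ W)
      (by rw [← Scheme.Hom.comp_preimage, AX.pr_tr])).appTop ≫ (AX.pr i ⁻¹ᵁ W).topIso.hom) t
  congr 2
  simp [Scheme.Hom.app_eq_appLE, Scheme.Hom.resLE_appLE]

/-- A finite type morphism out of a qcqs scheme immerses into a finitely presented one. -/
theorem exists_immersion [LocallyOfFiniteType f] [CompactSpace X] [QuasiSeparatedSpace X] :
    ∃ (X' : Scheme.{u}) (f' : X' ⟶ S) (j : X ⟶ X'), LocallyOfFinitePresentation f' ∧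
      QuasiCompact f' ∧ QuasiSeparated f' ∧ IsImmersion j ∧ j ≫ f' = f := by
  classical
  obtain ⟨AX⟩ := Main.exists_approx (S := X)
  -- affine opens of `X` over affine opens of `S`
  have hx : ∀ x : X, ∃ (V : X.affineOpens) (U : S.affineOpens), x ∈ V.1 ∧ V.1 ≤ f ⁻¹ᵁ U.1 := by
    intro x
    obtain ⟨U, hU, hxU, -⟩ := exists_isAffineOpen_mem_and_subset (U := ⊤) (x := f x) trivial
    obtain ⟨V, hV, hxV, hVU⟩ :=
      exists_isAffineOpen_mem_and_subset (U := f ⁻¹ᵁ U) (x := x) hxU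
    exact ⟨⟨V, hV⟩, ⟨U, hU⟩, hxV, hVU⟩
  choose V U hxV hVU using hx
  obtain ⟨s, hs⟩ := isCompact_univ.elim_finite_subcover (fun x : X => ((V x).1 : Set X))
    (fun x => (V x).1.2) (fun x _ => Set.mem_iUnion.mpr ⟨x, hxV x⟩)
  have hstage : ∀ x : X, ∃ (i : AX.I) (W : (AX.D.obj (op i)).Opens),
      IsAffineOpen W ∧ AX.pr i ⁻¹ᵁ W = (V x).1 := fun x => by
    obtain ⟨i, W, hW, hW'⟩ := exists_isAffineOpen_preimage_eq AX.D AX.cone AX.isLimit _ (V x).2
    obtain ⟨i, rfl⟩ : ∃ i', op i' = i := ⟨i.unop, rfl⟩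
    exact ⟨i, W, hW, hW'⟩
  choose i W hW hWV using hstage
  have hgen : ∀ x, ∃ t : Finset Γ(X, (V x).1),
      Subring.closure (Set.range (f.appLE (U x).1 (V x).1 (hVU x)).hom ∪
        (t : Set Γ(X, (V x).1))) = ⊤ := by
    intro x
    have hfin : (f.appLE (U x).1 (V x).1 (hVU x)).hom.FiniteType :=
      HasRingHomProperty.appLE @LocallyOfFiniteType f inferInstance (U x) (V x) (hVU x)
    algebraize [(f.appLE (U x).1 (V x).1 (hVU x)).hom]
    obtain ⟨t, ht⟩ := Algebra.FiniteType.out (R := Γ(S, (U x).1)) (A := Γ(X, (V x).1))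
    refine ⟨t, ?_⟩
    have := congrArg Subalgebra.toSubring ht
    rwa [Algebra.adjoin_eq_ring_closure, Algebra.top_toSubring] at this
  choose t ht using hgen
  have hsec := fun (x : X) (y : t x) => exists_section AX (hW x) (hWV x) y.1
  choose i' hi' z hz using hsec
  obtain ⟨b, -, hb⟩ := exists_ge_finset (J := AX.I) (Classical.arbitrary _)
    (σ := {x // x ∈ s} ⊕ (Σ x : {x // x ∈ s}, {y // y ∈ t x.1}))
    (Sum.elim (fun x => i x.1) (fun q => i' q.1.1 q.2))
  have hb₁ : ∀ x : {x // x ∈ s}, i x.1 ≤ b := fun x => hb (.inl x)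
  have hb₂ : ∀ (x : {x // x ∈ s}) (y : t x.1), i' x.1 y ≤ b := fun x y => hb (.inr ⟨x, y⟩)
  let g₁ : S ⟶ Spec (.of (ULift.{u} ℤ)) := IsTerminal.from specULiftZIsTerminal S
  let g₂ := IsTerminal.from specULiftZIsTerminal (AX.D.obj (op b))
  have : LocallyOfFinitePresentation g₂ :=
    have := Sys.isNoetherianRing_ulift.{u}
    inferInstance
  have : QuasiCompact g₂ := inferInstance
  let j : X ⟶ pullback g₁ g₂ := pullback.lift f (AX.pr b) (specULiftZIsTerminal.hom_ext _ _)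
  refine ⟨pullback g₁ g₂, pullback.fst g₁ g₂, j, inferInstance, inferInstance, inferInstance, ?_,
    pullback.lift_fst _ _ _⟩
  -- the affine opens of the product
  let W' : ∀ x : {x // x ∈ s}, (AX.D.obj (op b)).Opens := fun x =>
    AX.tr (hb₁ x) ⁻¹ᵁ W x.1
  have hW' : ∀ x, IsAffineOpen (W' x) := fun x => (hW x.1).preimage _
  have hW'V : ∀ x : {x // x ∈ s}, AX.pr b ⁻¹ᵁ W' x = (V x.1).1 := fun x => by
    rw [← Scheme.Hom.comp_preimage, AX.pr_tr, hWV]
  let P : {x // x ∈ s} → (pullback g₁ g₂).Opens := fun x =>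
    pullback.fst g₁ g₂ ⁻¹ᵁ (U x.1).1 ⊓ pullback.snd g₁ g₂ ⁻¹ᵁ W' x
  have hP : ∀ x, IsAffineOpen (P x) := by
    intro x
    have : IsAffine ((U x.1).1 : Scheme.{u}) := (U x.1).2
    have : IsAffine (W' x : Scheme.{u}) := hW' x
    let m := pullback.map ((U x.1).1.ι ≫ g₁) ((W' x).ι ≫ g₂) g₁ g₂ (U x.1).1.ι (W' x).ι (𝟙 _)
      (by simp) (by simp)
    have h1 : m.opensRange = P x := by
      apply Opens.ext
      show Set.range m = _
      rw [Scheme.Pullback.range_map, Scheme.Opens.range_ι, Scheme.Opens.range_ι]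
      rfl
    rw [← h1]
    exact isAffineOpen_opensRange m
  have hjP : ∀ x, j ⁻¹ᵁ P x = (V x.1).1 := by
    intro x
    rw [Scheme.Hom.preimage_inf, ← Scheme.Hom.comp_preimage, ← Scheme.Hom.comp_preimage,
      pullback.lift_fst, pullback.lift_snd, hW'V]
    exact inf_eq_right.mpr (hVU x.1)
  have hcl : ∀ x, IsClosedImmersion (j ∣_ P x) := by
    intro x
    have : IsAffine (P x : Scheme.{u}) := hP x
    have : IsAffine ((j ⁻¹ᵁ P x : X.Opens) : Scheme.{u}) := by rw [hjP]; exact (V x.1).2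
    refine IsClosedImmersion.of_surjective_of_isAffine _ ?_
    have hs' : Function.Surjective (j.appLE (P x) (V x.1).1 (hjP x).ge) := by
      intro y
      have hy : y ∈ (j.appLE (P x) (V x.1).1 (hjP x).ge).hom.range := by
        refine (Subring.closure_le.mpr ?_) ((ht x.1).ge (Subring.mem_top y))
        rintro z' (⟨a, rfl⟩ | hz')
        · refine ⟨(pullback.fst g₁ g₂).appLE (U x.1).1 (P x) inf_le_left a, ?_⟩
          show ((pullback.fst g₁ g₂).appLE _ _ _ ≫ j.appLE (P x) (V x.1).1 _) a = _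
          rw [Scheme.Hom.appLE_comp_appLE, appLE_eq (pullback.lift_fst _ _ _)]
        · let y' : t x.1 := ⟨z', hz'⟩
          let c := (AX.tr (hb₂ x y')).appLE (AX.tr (hi' x.1 y') ⁻¹ᵁ W x.1) (W' x)
            (by rw [← Scheme.Hom.comp_preimage, AX.tr_comp]) (z x.1 y')
          refine ⟨(pullback.snd g₁ g₂).appLE (W' x) (P x) inf_le_right c, ?_⟩
          show ((pullback.snd g₁ g₂).appLE _ _ _ ≫ j.appLE (P x) (V x.1).1 _) c = _
          rw [Scheme.Hom.appLE_comp_appLE, appLE_eq (pullback.lift_snd _ _ _) _ _ _ (hW'V x).ge]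
          show ((AX.tr (hb₂ x y')).appLE _ _ _ ≫ (AX.pr b).appLE _ _ _) (z x.1 y') = z'
          rw [Scheme.Hom.appLE_comp_appLE, appLE_eq (AX.pr_tr _) _ _ _
            (by rw [← Scheme.Hom.comp_preimage, AX.pr_tr, hWV])]
          exact hz x.1 y'
      exact hy
    have e : (j ∣_ P x).appTop ≫ (j ⁻¹ᵁ P x).topIso.hom =
        (P x).topIso.hom ≫ j.appLE (P x) (j ⁻¹ᵁ P x) le_rfl := by
      simp [Scheme.Hom.app_eq_appLE, morphismRestrict_appLE]
    have hs'' : Function.Surjective (j.appLE (P x) (j ⁻¹ᵁ P x) le_rfl) := by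
      revert hs'
      generalize (hjP x).ge = e
      revert e
      rw [← hjP x]
      exact fun _ h => h
    intro y
    obtain ⟨w, hw⟩ := hs'' ((j ⁻¹ᵁ P x).topIso.hom y)
    refine ⟨(P x).topIso.inv w,
      (ConcreteCategory.bijective_of_isIso ((j ⁻¹ᵁ P x).topIso.hom)).1 ?_⟩
    have h2 : (j ⁻¹ᵁ P x).topIso.hom ((j ∣_ P x).appTop ((P x).topIso.inv w)) =
        j.appLE (P x) (j ⁻¹ᵁ P x) le_rfl ((P x).topIso.hom ((P x).topIso.inv w)) :=
      congr($e ((P x).topIso.inv w))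
    rw [show (P x).topIso.hom ((P x).topIso.inv w) = w from
      congr($((P x).topIso.inv_hom_id) w)] at h2
    exact h2.trans hw
  let O : (pullback g₁ g₂).Opens := ⨆ x, P x
  have hjO : j ⁻¹ᵁ O = ⊤ := by
    refine top_le_iff.mp fun x _ => ?_
    obtain ⟨y, hy, hxy⟩ := Set.mem_iUnion₂.mp (hs (Set.mem_univ x))
    rw [Scheme.Hom.preimage_iSup]
    exact Opens.mem_iSup.mpr ⟨⟨y, hy⟩, (hjP ⟨y, hy⟩).ge hxy⟩
  have : IsClosedImmersion (j ∣_ O) := by
    rw [IsZariskiLocalAtTarget.iff_of_iSup_eq_top (P := @IsClosedImmersion) (fun x => O.ι ⁻¹ᵁ P x)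
      (by rw [← Scheme.Hom.preimage_iSup]; exact O.ι_preimage_self)]
    intro x
    rw [MorphismProperty.arrow_mk_iso_iff @IsClosedImmersion
      (morphismRestrictRestrict j O (O.ι ⁻¹ᵁ P x))]
    have e : O.ι ''ᵁ (O.ι ⁻¹ᵁ P x) = P x := by
      rw [Scheme.Hom.image_preimage_eq_opensRange_inf, Scheme.Opens.opensRange_ι]
      exact inf_eq_right.mpr (le_iSup P x)
    rw [e]
    exact hcl x
  have hj' : j = (X.topIso.inv ≫ (X.isoOfEq hjO).inv) ≫ j ∣_ O ≫ O.ι := by
    simp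
  rw [hj']
  infer_instance

end Groth.Agent.Lib.Lim.Approx.Immersion
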