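import Groth.Agent.Lib.Lim.Approx.Ring

/-!
# The index set and the affine parts of an approximation step
-/

set_option autoImplicit false
universe u
open CategoryTheory Limits AlgebraicGeometry Opposite TopologicalSpace
open Groth.Agent.Lib.Lim.Approx.Basic Groth.Agent.Lib.Lim.Approx.Ring

namespace Groth.Agent.Lib.Lim.Approx.Index

set_option backward.isDefEq.respectTransparency false

lemma closure_eq_top {B : Type u} [CommRing B] (t : Set B) (h : Algebra.adjoin ℤ t = ⊤) :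
    Subring.closure t = ⊤ := by
  refine top_le_iff.mp fun x _ => ?_
  have hx : x ∈ Algebra.adjoin ℤ t := h ▸ Algebra.mem_top
  exact Algebra.adjoin_induction (p := fun x _ => x ∈ Subring.closure t)
    (fun x hx => Subring.subset_closure hx) (fun r => by rw [eq_intCast]; exact intCast_mem _ r)
    (fun x y _ _ => add_mem) (fun x y _ _ => mul_mem) hx

/-- Fractions with denominators powers of `f` form a subring. -/
lemma frac_closure {B S : Type u} [CommRing B] [CommRing S] (φ : B →+* S) (f : B) (t : Set S)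
    (ht : ∀ x ∈ t, ∃ (m : ℕ) (p : B), φ p = x * φ f ^ m) {x : S} (hx : x ∈ Subring.closure t) :
    ∃ (m : ℕ) (p : B), φ p = x * φ f ^ m := by
  induction hx using Subring.closure_induction with
  | mem x hx => exact ht x hx
  | zero => exact ⟨0, 0, by simp⟩
  | one => exact ⟨0, 1, by simp⟩
  | add x y _ _ hx hy =>
    obtain ⟨m₁, p₁, h₁⟩ := hx
    obtain ⟨m₂, p₂, h₂⟩ := hy
    refine ⟨m₁ + m₂, p₁ * f ^ m₂ + p₂ * f ^ m₁, ?_⟩
    rw [map_add, map_mul, map_mul, map_pow, map_pow, h₁, h₂, pow_add]; ring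
  | neg x _ hx =>
    obtain ⟨m₁, p₁, h₁⟩ := hx
    exact ⟨m₁, -p₁, by rw [map_neg, h₁, neg_mul]⟩
  | mul x y _ _ hx hy =>
    obtain ⟨m₁, p₁, h₁⟩ := hx
    obtain ⟨m₂, p₂, h₂⟩ := hy
    exact ⟨m₁ + m₂, p₁ * p₂, by rw [map_mul, h₁, h₂, pow_add]; ring⟩

variable {T V U : Scheme.{u}} {jV : V ⟶ T} {jU : U ⟶ T} [IsOpenImmersion jV] [IsOpenImmersion jU]
  {A : Approx V} (d : Datum jV jU A)

/-- A stage: a stage of `V` and a big enough finitely generated subring of the fibre product. -/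
structure Stage where
  i : d.Idx
  P : Subring (Γ(U, ⊤) × Γ((d.Wi i : Scheme.{u}), ⊤))
  le : P ≤ d.B i
  fg : ∃ s : Finset (Γ(U, ⊤) × Γ((d.Wi i : Scheme.{u}), ⊤)), Subring.closure (s : Set _) = P
  mem : ∀ k, d.el i k ∈ P
  gen : ∀ k (x : Γ((d.Wi i : Scheme.{u}), (d.Wi i : Scheme.{u}).basicOpen (d.gi i k))),
    ∃ (m : ℕ) (p : P), (d.Wi i : Scheme.{u}).presheaf.map (homOfLE le_top).op p.1.2 =
      x * (d.Wi i : Scheme.{u}).presheaf.map (homOfLE le_top).op (d.gi i k) ^ m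

/-- Transition of the fibre products. -/
noncomputable def rho {i i' : d.Idx} (h : i ≤ i') :
    Γ(U, ⊤) × Γ((d.Wi i : Scheme.{u}), ⊤) →+* Γ(U, ⊤) × Γ((d.Wi i' : Scheme.{u}), ⊤) :=
  RingHom.prodMap (RingHom.id _) (d.r h).appTop.hom

lemma rho_rho {i i' i'' : d.Idx} (h : i ≤ i') (h' : i' ≤ i'')
    (p : Γ(U, ⊤) × Γ((d.Wi i : Scheme.{u}), ⊤)) :
    rho d h' (rho d h p) = rho d (h.trans h') p := by
  refine Prod.ext rfl ?_
  show (d.r h').appTop ((d.r h).appTop p.2) = (d.r (h.trans h')).appTop p.2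
  rw [← ConcreteCategory.comp_apply, ← Scheme.Hom.comp_appTop, d.r_comp]

lemma rho_self {i : d.Idx} (p : Γ(U, ⊤) × Γ((d.Wi i : Scheme.{u}), ⊤)) :
    rho d (le_refl i) p = p := by
  refine Prod.ext rfl ?_
  show (d.r (le_refl i)).appTop p.2 = p.2
  rw [d.r_self, Scheme.Hom.id_appTop]; rfl

lemma rho_mem {i i' : d.Idx} (h : i ≤ i') {p : Γ(U, ⊤) × Γ((d.Wi i : Scheme.{u}), ⊤)}
    (hp : p ∈ d.B i) : rho d h p ∈ d.B i' := by
  rw [d.mem_B] at hp ⊢
  show d.a.appTop p.1 = (d.w i').appTop ((d.r h).appTop p.2)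
  rw [← ConcreteCategory.comp_apply, ← Scheme.Hom.comp_appTop, d.w_r, hp]

lemma rho_el {i i' : d.Idx} (h : i ≤ i') (k : Fin d.n) : rho d h (d.el i k) = d.el i' k :=
  Prod.ext rfl (d.r_gi h k)

instance preorder : Preorder (Stage d) where
  le j j' := ∃ h : j.i ≤ j'.i, j.P.map (rho d h) ≤ j'.P
  le_refl j := ⟨le_rfl, by rintro _ ⟨p, hp, rfl⟩; rw [rho_self]; exact hp⟩
  le_trans j j' j'' h h' := ⟨h.1.trans h'.1, by
    rintro _ ⟨p, hp, rfl⟩
    rw [← rho_rho d h.1 h'.1]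
    exact h'.2 ⟨_, h.2 ⟨p, hp, rfl⟩, rfl⟩⟩

lemma le_i {j j' : Stage d} (h : j ≤ j') : j.i ≤ j'.i := h.1

lemma rho_mem_P {j j' : Stage d} (h : j ≤ j') {p : Γ(U, ⊤) × Γ((d.Wi j.i : Scheme.{u}), ⊤)}
    (hp : p ∈ j.P) : rho d (le_i d h) p ∈ j'.P := h.2 ⟨p, hp, rfl⟩

variable [IsAffine U]

/-- Sections over the affine pieces are fractions with numerators in the fibre product. -/
lemma exists_frac (i : d.Idx) (k : Fin d.n)
    (x : Γ((d.Wi i : Scheme.{u}), (d.Wi i : Scheme.{u}).basicOpen (d.gi i k))) :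
    ∃ (m : ℕ) (p : Γ(U, ⊤) × Γ((d.Wi i : Scheme.{u}), ⊤)), p ∈ d.B i ∧
      (d.Wi i : Scheme.{u}).presheaf.map (homOfLE le_top).op p.2 =
        x * (d.Wi i : Scheme.{u}).presheaf.map (homOfLE le_top).op (d.gi i k) ^ m := by
  have := isLocalization_basicOpen_of_qcqs (X := (d.Wi i : Scheme.{u})) (U := ⊤) isCompact_univ
    isQuasiSeparated_univ (d.gi i k)
  let res := ((d.Wi i : Scheme.{u}).presheaf.map
    (homOfLE (le_top : (d.Wi i : Scheme.{u}).basicOpen (d.gi i k) ≤ ⊤)).op).hom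
  obtain ⟨⟨s', _, m, rfl⟩, hs'⟩ := IsLocalization.surj (Submonoid.powers (d.gi i k)) x
  have hx' : x * res (d.gi i k ^ m) = res s' := hs'
  obtain ⟨n, y, hy⟩ := d.exists_a_eq k ((d.w i).appTop s')
  refine ⟨m + n, (y, d.gi i k ^ n * s'), ?_, ?_⟩
  · rw [d.mem_B, hy, d.a_f i k]
    show _ = (d.w i).appTop.hom (d.gi i k ^ n * s')
    rw [map_mul, map_pow]
  · show res (d.gi i k ^ n * s') = x * res (d.gi i k) ^ (m + n)
    rw [map_mul, map_pow, ← hx', map_pow, pow_add]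
    ring

omit [IsAffine U] in
/-- The rings of the affine pieces of a stage are finitely generated. -/
lemma exists_generators (i : d.Idx) (k : Fin d.n) :
    ∃ t : Finset Γ((d.Wi i : Scheme.{u}), (d.Wi i : Scheme.{u}).basicOpen (d.gi i k)),
      Subring.closure (t : Set Γ((d.Wi i : Scheme.{u}), (d.Wi i : Scheme.{u}).basicOpen (d.gi i k))) = ⊤ := by
  let f : (d.Wi i : Scheme.{u}) ⟶ Spec (.of (ULift.{u} ℤ)) :=
    IsTerminal.from specULiftZIsTerminal _
  have hf : f = (d.Wi i).ι ≫ IsTerminal.from specULiftZIsTerminal _ :=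
    specULiftZIsTerminal.hom_ext _ _
  have : LocallyOfFiniteType f := by rw [hf]; infer_instance
  have h := LocallyOfFiniteType.finiteType_appLE f (isAffineOpen_top _) (d.affine_gi i k)
    (U := ⊤) (by simp)
  let ψ := (f.appLE ⊤ ((d.Wi i : Scheme.{u}).basicOpen (d.gi i k)) (by simp)).hom
  let φ : ℤ →+* Γ(Spec (.of (ULift.{u} ℤ)), ⊤) :=
    (Scheme.ΓSpecIso _).inv.hom.comp ULift.ringEquiv.symm.toRingHom
  have hφ : φ.FiniteType := RingHom.FiniteType.of_surjective _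
    ((ConcreteCategory.bijective_of_isIso (Scheme.ΓSpecIso _).inv).2.comp
      ULift.ringEquiv.symm.surjective)
  have h' : (ψ.comp φ).FiniteType := h.comp hφ
  have h'' : Algebra.FiniteType ℤ
      Γ((d.Wi i : Scheme.{u}), (d.Wi i : Scheme.{u}).basicOpen (d.gi i k)) :=
    RingHom.finiteType_algebraMap.mp
      (by rw [RingHom.ext_int (algebraMap ℤ _) (ψ.comp φ)]; exact h')
  obtain ⟨t, ht⟩ := h''
  exact ⟨t, closure_eq_top _ ht⟩

omit [IsAffine U] in
/-- A subring containing the fractions of a set of generators gives all fractions. -/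
lemma gen_of_generators (i : d.Idx) (k : Fin d.n)
    (P : Subring (Γ(U, ⊤) × Γ((d.Wi i : Scheme.{u}), ⊤))) (hel : d.el i k ∈ P)
    (t : Finset Γ((d.Wi i : Scheme.{u}), (d.Wi i : Scheme.{u}).basicOpen (d.gi i k)))
    (ht : Subring.closure (t : Set Γ((d.Wi i : Scheme.{u}), (d.Wi i : Scheme.{u}).basicOpen (d.gi i k))) = ⊤)
    (hP : ∀ x ∈ t, ∃ (m : ℕ) (p : P), (d.Wi i : Scheme.{u}).presheaf.map (homOfLE le_top).op p.1.2 =
      x * (d.Wi i : Scheme.{u}).presheaf.map (homOfLE le_top).op (d.gi i k) ^ m)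
    (x : Γ((d.Wi i : Scheme.{u}), (d.Wi i : Scheme.{u}).basicOpen (d.gi i k))) :
    ∃ (m : ℕ) (p : P), (d.Wi i : Scheme.{u}).presheaf.map (homOfLE le_top).op p.1.2 =
      x * (d.Wi i : Scheme.{u}).presheaf.map (homOfLE le_top).op (d.gi i k) ^ m :=
  frac_closure (((d.Wi i : Scheme.{u}).presheaf.map
      (homOfLE (le_top : (d.Wi i : Scheme.{u}).basicOpen (d.gi i k) ≤ ⊤)).op).hom.comp
      ((RingHom.snd _ _).comp P.subtype)) ⟨_, hel⟩ _ hP (ht.ge (Subring.mem_top x))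

omit [IsAffine U] in
lemma exists_stage_of (i : d.Idx) (s : Finset (Γ(U, ⊤) × Γ((d.Wi i : Scheme.{u}), ⊤)))
    (P : Subring (Γ(U, ⊤) × Γ((d.Wi i : Scheme.{u}), ⊤))) (le : P ≤ d.B i)
    (fg : ∃ t : Finset (Γ(U, ⊤) × Γ((d.Wi i : Scheme.{u}), ⊤)), Subring.closure (t : Set _) = P)
    (mem : ∀ k, d.el i k ∈ P)
    (gen : ∀ k (x : Γ((d.Wi i : Scheme.{u}), (d.Wi i : Scheme.{u}).basicOpen (d.gi i k))),
      ∃ (m : ℕ) (p : P), (d.Wi i : Scheme.{u}).presheaf.map (homOfLE le_top).op p.1.2 =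
        x * (d.Wi i : Scheme.{u}).presheaf.map (homOfLE le_top).op (d.gi i k) ^ m)
    (hsP : ∀ p ∈ s, p ∈ P) :
    ∃ (j : Stage d) (h : i ≤ j.i), ∀ p ∈ s, rho d h p ∈ j.P := by
  let j : Stage d := Stage.mk i P le fg mem gen
  refine Exists.intro j (Exists.intro (le_refl i) ?_)
  intro p hp
  show rho d (le_refl i) p ∈ P
  exact Set.mem_of_eq_of_mem (s := (P : Set _)) (rho_self d p) (hsP p hp)

/-- Every finite set of elements of the fibre product lies in a stage. -/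
theorem exists_stage (i : d.Idx) (s : Finset (Γ(U, ⊤) × Γ((d.Wi i : Scheme.{u}), ⊤)))
    (hs : ∀ p ∈ s, p ∈ d.B i) :
    ∃ (P : Stage d) (h : i ≤ P.i), ∀ p ∈ s, rho d h p ∈ P.P := by
  classical
  have hgen := fun k => exists_generators d i k
  choose t ht using hgen
  have hfrac := fun k => exists_frac d i k
  choose m q hq hq' using hfrac
  let E : Finset (Γ(U, ⊤) × Γ((d.Wi i : Scheme.{u}), ⊤)) :=
    s ∪ Finset.univ.image (d.el i) ∪ Finset.univ.biUnion (fun k => (t k).image (q k))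
  have hE : ∀ p ∈ E, p ∈ d.B i := by
    intro p hp
    simp only [E, Finset.mem_union, Finset.mem_image, Finset.mem_univ, true_and,
      Finset.mem_biUnion] at hp
    rcases hp with (hp | ⟨k, rfl⟩) | ⟨k, x, -, rfl⟩
    exacts [hs p hp, d.el_mem i k, hq k x]
  let P := Subring.closure (E : Set (Γ(U, ⊤) × Γ((d.Wi i : Scheme.{u}), ⊤)))
  have hEP : ∀ p ∈ E, p ∈ P := fun p hp => Subring.subset_closure hp
  have hel : ∀ k, d.el i k ∈ P := fun k => hEP _ (by simp [E])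
  have hgenP : ∀ k (x : Γ((d.Wi i : Scheme.{u}), (d.Wi i : Scheme.{u}).basicOpen (d.gi i k))),
      ∃ (m' : ℕ) (p : P), (d.Wi i : Scheme.{u}).presheaf.map (homOfLE le_top).op p.1.2 =
        x * (d.Wi i : Scheme.{u}).presheaf.map (homOfLE le_top).op (d.gi i k) ^ m' := fun k =>
    gen_of_generators d i k P (hel k) (t k) (ht k) (fun x hx =>
      ⟨m k x, ⟨q k x, hEP _ (Finset.mem_union_right _
        (Finset.mem_biUnion.mpr ⟨k, Finset.mem_univ _, Finset.mem_image_of_mem _ hx⟩))⟩, hq' k x⟩)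
  exact exists_stage_of d i s P (Subring.closure_le.mpr hE) ⟨E, rfl⟩ hel hgenP
    (fun p hp => hEP p (Finset.mem_union_left _ (Finset.mem_union_left _ hp)))

instance nonempty_stage : Nonempty (Stage d) :=
  ⟨(exists_stage d ⟨d.i₀, le_rfl⟩ ∅ (by simp)).choose⟩

/-- Stages above a given element of a fibre product. -/
theorem exists_above (j : Stage d) (i : d.Idx) (h : j.i ≤ i)
    (s : Finset (Γ(U, ⊤) × Γ((d.Wi i : Scheme.{u}), ⊤))) (hs : ∀ p ∈ s, p ∈ d.B i) :
    ∃ (j' : Stage d) (h' : i ≤ j'.i), j ≤ j' ∧ ∀ p ∈ s, rho d h' p ∈ j'.P := by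
  classical
  obtain ⟨E, hE⟩ := j.fg
  obtain ⟨P, hPi, hP⟩ := exists_stage d i (E.image (rho d h) ∪ s) (fun p hp => by
    rcases Finset.mem_union.mp hp with hp | hp
    · obtain ⟨q, hq, rfl⟩ := Finset.mem_image.mp hp
      exact rho_mem d h (j.le (hE ▸ Subring.subset_closure hq))
    · exact hs p hp)
  refine ⟨P, hPi, ⟨h.trans hPi, ?_⟩, fun p hp => hP p (Finset.mem_union_right _ hp)⟩
  rw [← hE, RingHom.map_closure, Subring.closure_le]
  rintro _ ⟨p, hp, rfl⟩
  rw [← rho_rho d h hPi]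
  exact hP _ (Finset.mem_union_left _ (Finset.mem_image_of_mem _ hp))

instance isDirected : IsDirected (Stage d) (fun a b => a ≤ b) where
  directed j j' := by
    classical
    obtain ⟨k, hk, hk'⟩ := A.exists_ge j.i.1 j'.i.1
    obtain ⟨E, hE⟩ := j'.fg
    let i : d.Idx := ⟨k, j.i.2.trans hk⟩
    obtain ⟨j'', h'', hj, hs⟩ := exists_above d j i hk (E.image (rho d (show j'.i ≤ i from hk'))) (by
      intro p hp
      obtain ⟨q, hq, rfl⟩ := Finset.mem_image.mp hp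
      exact rho_mem d _ (j'.le (hE ▸ Subring.subset_closure hq)))
    refine ⟨j'', hj, ⟨(show j'.i ≤ i from hk').trans h'', ?_⟩⟩
    rw [← hE, RingHom.map_closure, Subring.closure_le]
    rintro _ ⟨p, hp, rfl⟩
    rw [← rho_rho d (show j'.i ≤ i from hk') h'']
    exact hs _ (Finset.mem_image_of_mem _ hp)

lemma exists_stage_ge (i : A.I) : ∃ j : Stage d, i ≤ j.i.1 := by
  obtain ⟨j⟩ := nonempty_stage d
  obtain ⟨k, hk, hk'⟩ := A.exists_ge j.i.1 i
  obtain ⟨j', h', -, -⟩ := exists_above d j ⟨k, j.i.2.trans hk⟩ hk ∅ (by simp)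
  exact ⟨j', hk'.trans h'⟩

/-- An element of the fibre product at `U` occurs at some stage. -/
theorem exists_mem (x : Γ(U, ⊤)) : ∃ (j : Stage d) (p : j.P), p.1.1 = x := by
  classical
  obtain ⟨j⟩ := nonempty_stage d
  obtain ⟨i, hi, t, ht⟩ := d.exists_section j.i (d.a.appTop x)
  obtain ⟨j', h', -, hp⟩ := exists_above d j i hi {(x, t)} (by
    intro p hp
    obtain rfl := Finset.mem_singleton.mp hp
    exact ht.symm)
  exact ⟨j', ⟨_, hp _ (Finset.mem_singleton_self _)⟩, rfl⟩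

/-- Elements with the same image in `Γ(U)` become equal at a later stage. -/
theorem exists_eq (j : Stage d) (p q : j.P) (h : p.1.1 = q.1.1) :
    ∃ (j' : Stage d) (hle : j ≤ j'), rho d (le_i d hle) p.1 = rho d (le_i d hle) q.1 := by
  obtain ⟨i, hi, hz⟩ := d.exists_zero (p.1.2 - q.1.2) (by
    rw [map_sub, sub_eq_zero, ← d.mem_B.mp (j.le p.2), ← d.mem_B.mp (j.le q.2), h])
  obtain ⟨j', h', hj, -⟩ := exists_above d j i hi ∅ (by simp)
  refine ⟨j', hj, ?_⟩
  rw [← rho_rho d hi h', ← rho_rho d hi h']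
  congr 1
  refine Prod.ext h ?_
  rw [map_sub, sub_eq_zero] at hz
  exact hz

end Groth.Agent.Lib.Lim.Approx.Index
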