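import Mathlib.AlgebraicGeometry.QuasiAffine
import Mathlib.AlgebraicGeometry.AffineTransitionLimit

/-!
# Local tools for absolute Noetherian approximation

* `isOpenImmersion_toSpec`: a criterion for `W ⟶ Spec P` to be an open immersion onto a union of
  basic opens.
* `isLimitOfCover`: a cone is limiting if it is so on the members of a compatible open cover.
-/

set_option autoImplicit false
universe u
open CategoryTheory Limits AlgebraicGeometry

namespace Groth.Agent.Lib.Lim.Approx.Local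

set_option backward.isDefEq.respectTransparency false

variable {W : Scheme.{u}} {P : CommRingCat.{u}} (φ : P ⟶ Γ(W, ⊤))

/-- The map to `Spec P` given by global sections. -/
noncomputable abbrev toSpec : W ⟶ Spec P := W.toSpecΓ ≫ Spec.map φ

lemma preimage_toSpec (f : P) :
    toSpec φ ⁻¹ᵁ PrimeSpectrum.basicOpen f = W.basicOpen (φ f) := by
  rw [Scheme.Hom.comp_preimage, ← Scheme.toSpecΓ_preimage_basicOpen]
  rfl

variable [CompactSpace W]

/-- `Γ(W_f)` is the localization of `P` at `f`, if `P ⟶ Γ(W)` has power-torsion kernel and hits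
everything up to powers of `f`. -/
lemma isLocalization (f : P)
    (hinj : ∀ p, φ p = 0 → ∃ m : ℕ, f ^ m * p = 0)
    (hsurj : ∀ x : Γ(W, W.basicOpen (φ f)), ∃ (m : ℕ) (p : P),
      W.presheaf.map (homOfLE le_top).op (φ p) =
        x * W.presheaf.map (homOfLE le_top).op (φ f) ^ m) :
    letI := (φ ≫ W.presheaf.map (homOfLE (le_top : W.basicOpen (φ f) ≤ ⊤)).op).hom.toAlgebra
    IsLocalization.Away f Γ(W, W.basicOpen (φ f)) := by
  let ψ := φ ≫ W.presheaf.map (homOfLE (le_top : W.basicOpen (φ f) ≤ ⊤)).op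
  algebraize [ψ.hom]
  constructor; constructor
  · rintro ⟨_, n, rfl⟩
    simp only [map_pow, RingHom.algebraMap_toAlgebra]
    exact IsUnit.pow _ (RingedSpace.isUnit_res_basicOpen _ (φ f))
  · intro x
    obtain ⟨m, p, e⟩ := hsurj x
    refine ⟨⟨p, _, m, rfl⟩, ?_⟩
    simp only [map_pow, RingHom.algebraMap_toAlgebra]
    exact e.symm
  · intro x y hxy
    rw [← sub_eq_zero, ← map_sub, RingHom.algebraMap_toAlgebra] at hxy
    obtain ⟨n, hn⟩ := exists_pow_mul_eq_zero_of_res_basicOpen_eq_zero_of_isCompact W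
      (U := ⊤) isCompact_univ (φ (x - y)) (φ f) hxy
    obtain ⟨m, hm⟩ := hinj (f ^ n * (x - y)) (by rw [map_mul, map_pow]; exact hn)
    refine ⟨⟨_, m + n, rfl⟩, sub_eq_zero.mp ?_⟩
    show f ^ (m + n) * x - f ^ (m + n) * y = 0
    rw [← mul_sub, pow_add, mul_assoc, hm]

/-- A morphism to an affine scheme that is an isomorphism over basic opens whose preimages cover
the source is an open immersion onto the union of these basic opens. -/
theorem isOpenImmersion_toSpec {ι : Type*} (f : ι → P)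
    (haff : ∀ k, IsAffineOpen (W.basicOpen (φ (f k))))
    (hcov : ∀ x : W, ∃ k, x ∈ W.basicOpen (φ (f k)))
    (hinj : ∀ k p, φ p = 0 → ∃ m : ℕ, f k ^ m * p = 0)
    (hsurj : ∀ k (x : Γ(W, W.basicOpen (φ (f k)))), ∃ (m : ℕ) (p : P),
      W.presheaf.map (homOfLE le_top).op (φ p) =
        x * W.presheaf.map (homOfLE le_top).op (φ (f k)) ^ m) :
    IsOpenImmersion (toSpec φ) ∧
      ∀ k (y : Spec P), y ∈ PrimeSpectrum.basicOpen (f k) → y ∈ Set.range (toSpec φ) := by
  have key : ∀ k, ∃ e : Γ(W, W.basicOpen (φ (f k))) ≅ CommRingCat.of (Localization.Away (f k)),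
      (W.basicOpen (φ (f k))).ι ≫ toSpec φ = (haff k).isoSpec.hom ≫ Spec.map e.inv ≫
        Spec.map (CommRingCat.ofHom (algebraMap P (Localization.Away (f k)))) := by
    intro k
    let ψ := φ ≫ W.presheaf.map (homOfLE (le_top : W.basicOpen (φ (f k)) ≤ ⊤)).op
    algebraize [ψ.hom]
    have := isLocalization φ (f k) (hinj k) (hsurj k)
    let e := IsLocalization.algEquiv (Submonoid.powers (f k))
      Γ(W, W.basicOpen (φ (f k))) (Localization.Away (f k))
    refine ⟨e.toRingEquiv.toCommRingCatIso, ?_⟩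
    have he : CommRingCat.ofHom (algebraMap P (Localization.Away (f k))) ≫
        e.toRingEquiv.toCommRingCatIso.inv = ψ := by
      ext p; exact e.symm.commutes p
    rw [← Spec.map_comp, he, Spec.map_comp, toSpec, ← Category.assoc,
      ← Scheme.Opens.toSpecΓ_SpecMap_presheaf_map_top, Category.assoc]
    rfl
  constructor
  · refine IsZariskiLocalAtTarget.of_forall_source_exists_preimage _ fun x => ?_
    obtain ⟨k, hk⟩ := hcov x
    refine ⟨PrimeSpectrum.basicOpen (f k), (preimage_toSpec φ (f k)).ge hk, ?_⟩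
    obtain ⟨e, he⟩ := key k
    suffices IsOpenImmersion ((W.basicOpen (φ (f k))).ι ≫ toSpec φ) by
      convert! this <;> rw [preimage_toSpec]
    rw [he]
    have : IsOpenImmersion
        (Spec.map (CommRingCat.ofHom (algebraMap P (Localization.Away (f k))))) :=
      .of_isLocalization (f k)
    infer_instance
  · intro k y hy
    obtain ⟨e, he⟩ := key k
    replace hy : y ∈ Set.range (PrimeSpectrum.comap (algebraMap P (Localization.Away (f k)))) :=
      (PrimeSpectrum.localization_away_comap_range (Localization.Away (f k)) (f k)).ge hy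
    obtain ⟨z, hz⟩ := hy
    let w := (haff k).isoSpec.inv (Spec.map e.hom z)
    refine ⟨(W.basicOpen (φ (f k))).ι w, ?_⟩
    rw [← Scheme.Hom.comp_apply, he, Scheme.Hom.comp_apply, Scheme.Hom.comp_apply]
    have h1 : (haff k).isoSpec.hom w = Spec.map e.hom z := by
      rw [← Scheme.Hom.comp_apply, Iso.inv_hom_id]; rfl
    rw [h1, ← Scheme.Hom.comp_apply (Spec.map e.hom), ← Spec.map_comp, e.inv_hom_id, Spec.map_id]
    exact hz

omit [CompactSpace W]

section Cover

variable {J : Type u} [SmallCategory J] [IsCofiltered J] {E : J ⥤ Scheme.{u}} {c : Cone E}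
  {ι : Type*} {F : ι → J ⥤ Scheme.{u}} (α : ∀ a, F a ⟶ E) (d : ∀ a, Cone (F a))
  (q : ∀ a, (d a).pt ⟶ c.pt)

/-- A cone is limiting if it is so on the members of a compatible open cover. -/
theorem nonempty_isLimit_of_cover [∀ a j, IsOpenImmersion ((α a).app j)]
    [∀ a, IsOpenImmersion (q a)]
    (hα : ∀ a {j k : J} (f : j ⟶ k), E.map f ⁻¹ᵁ ((α a).app k).opensRange =
      ((α a).app j).opensRange)
    (hcov : ∀ j (x : E.obj j), ∃ a, x ∈ ((α a).app j).opensRange)
    (hq : ∀ a j, q a ≫ c.π.app j = (d a).π.app j ≫ (α a).app j)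
    (hpre : ∀ a j, c.π.app j ⁻¹ᵁ ((α a).app j).opensRange ≤ (q a).opensRange)
    (hd : ∀ a, IsLimit (d a)) : Nonempty (IsLimit c) := by
  obtain ⟨j₀⟩ := IsCofiltered.nonempty (C := J)
  have huniq : ∀ (a : ι) {T : Scheme.{u}} (g g' : T ⟶ c.pt),
      (∀ j, g ≫ c.π.app j = g' ≫ c.π.app j) →
      Set.range (g ≫ c.π.app j₀) ⊆ ((α a).app j₀).opensRange → g = g' := by
    intro a T g g' he hg
    have hr : ∀ g'' : T ⟶ c.pt, g'' ≫ c.π.app j₀ = g ≫ c.π.app j₀ →
        Set.range g'' ⊆ Set.range (q a) := fun g'' h => by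
      rintro _ ⟨t, rfl⟩
      exact hpre a j₀ (show (g'' ≫ c.π.app j₀) t ∈ _ from hg ⟨t, by rw [h]⟩)
    rw [← IsOpenImmersion.lift_fac (q a) g (hr g rfl),
      ← IsOpenImmersion.lift_fac (q a) g' (hr g' (he j₀).symm)]
    congr 1
    refine (hd a).hom_ext fun j => ?_
    rw [← cancel_mono ((α a).app j), Category.assoc, Category.assoc, ← hq,
      IsOpenImmersion.lift_fac_assoc, IsOpenImmersion.lift_fac_assoc, he j]
  have key : ∀ s : Cone E, ∃! m : s.pt ⟶ c.pt, ∀ j, m ≫ c.π.app j = s.π.app j := by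
    intro s
    let O : ι → s.pt.Opens := fun a => s.π.app j₀ ⁻¹ᵁ ((α a).app j₀).opensRange
    have hO : ∀ a j, s.π.app j ⁻¹ᵁ ((α a).app j).opensRange = O a := by
      intro a j
      obtain ⟨k, u, v, -⟩ := IsCofilteredOrEmpty.cone_objs j j₀
      rw [← s.w u, Scheme.Hom.comp_preimage, hα, ← hα a v, ← Scheme.Hom.comp_preimage, s.w v]
    let ℓ : ∀ a j, (O a : Scheme.{u}) ⟶ (F a).obj j := fun a j =>
      IsOpenImmersion.lift ((α a).app j) ((O a).ι ≫ s.π.app j) (by
        rintro _ ⟨t, rfl⟩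
        exact (hO a j).ge t.2)
    have hℓ : ∀ a j, ℓ a j ≫ (α a).app j = (O a).ι ≫ s.π.app j := fun a j =>
      IsOpenImmersion.lift_fac _ _ _
    let sa : ∀ a, Cone (F a) := fun a =>
      { pt := O a
        π.app := ℓ a
        π.naturality := fun j k u => by
          dsimp
          rw [Category.id_comp, ← cancel_mono ((α a).app k), Category.assoc, (α a).naturality, hℓ,
            reassoc_of% (hℓ a j), s.w] }
    let m : ∀ a, (O a : Scheme.{u}) ⟶ c.pt := fun a => (hd a).lift (sa a) ≫ q a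
    have hm : ∀ a j, m a ≫ c.π.app j = (O a).ι ≫ s.π.app j := by
      intro a j
      rw [Category.assoc, hq, reassoc_of% ((hd a).fac (sa a) j)]
      exact hℓ a j
    let 𝒰 : s.pt.OpenCover := s.pt.openCoverOfIsOpenCover O (top_le_iff.mp fun x _ => by
      obtain ⟨a, ha⟩ := hcov j₀ (s.π.app j₀ x)
      exact TopologicalSpace.Opens.mem_iSup.mpr ⟨a, ha⟩)
    have hglue : ∀ a b, pullback.fst (𝒰.f a) (𝒰.f b) ≫ m a =
        pullback.snd (𝒰.f a) (𝒰.f b) ≫ m b := by
      intro a b
      refine huniq a _ _ (fun j => ?_) ?_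
      · refine (Category.assoc _ _ _).trans ((congrArg (_ ≫ ·) (hm a j)).trans ?_)
        refine (Category.assoc _ _ _).symm.trans ?_
        refine (congrArg (· ≫ s.π.app j) pullback.condition).trans ?_
        exact (Category.assoc _ _ _).trans ((congrArg (_ ≫ ·) (hm b j).symm).trans (Category.assoc _ _ _).symm)
      · rw [show (pullback.fst (𝒰.f a) (𝒰.f b) ≫ m a) ≫ c.π.app j₀ = pullback.fst (𝒰.f a) (𝒰.f b) ≫ (O a).ι ≫ s.π.app j₀ from
          (Category.assoc _ _ _).trans (congrArg (_ ≫ ·) (hm a j₀))]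
        rintro _ ⟨t, rfl⟩
        exact (pullback.fst (𝒰.f a) (𝒰.f b) t).2
    refine ⟨Scheme.Cover.glueMorphisms 𝒰 m hglue, fun j => ?_, fun m' hm' => ?_⟩
    · refine 𝒰.hom_ext _ _ fun a => ?_
      rw [Scheme.Cover.ι_glueMorphisms_assoc]
      exact hm a j
    · refine 𝒰.hom_ext _ _ fun a => ?_
      rw [Scheme.Cover.ι_glueMorphisms]
      refine huniq a _ _ (fun j => ?_) ?_
      · rw [Category.assoc, hm', hm]; rfl
      · rw [Category.assoc, hm']
        rintro _ ⟨t, rfl⟩
        exact t.2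
  exact ⟨{ lift := fun s => (key s).choose
           fac := fun s j => (key s).choose_spec.1 j
           uniq := fun s m hm => (key s).choose_spec.2 m hm }⟩

end Cover

end Groth.Agent.Lib.Lim.Approx.Local
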