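import Groth.Agent.Lib.Lim.Approx.Main
import Mathlib.AlgebraicGeometry.Morphisms.FinitePresentation

/-!
# A morphism of qcqs schemes is a limit of morphisms of finite type `ℤ`-schemes
-/

set_option autoImplicit false
universe u
open CategoryTheory Limits AlgebraicGeometry Opposite
open Groth.Agent.Lib.Lim.Approx.Basic

namespace Groth.Agent.Lib.Lim.Approx.Morph

set_option backward.isDefEq.respectTransparency false

variable {X S : Scheme.{u}} (f : X ⟶ S) (AX : Approx X) (AS : Approx S)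

/-- A morphism of stages compatible with `f`. -/
structure Idx where
  a : AS.I
  b : AX.I
  φ : AX.D.obj (op b) ⟶ AS.D.obj (op a)
  w : AX.pr b ≫ φ = f ≫ AS.pr a

instance preorder : Preorder (Idx f AX AS) where
  le k k' := ∃ (ha : k.a ≤ k'.a) (hb : k.b ≤ k'.b), k'.φ ≫ AS.tr ha = AX.tr hb ≫ k.φ
  le_refl k := ⟨le_rfl, le_rfl, by rw [AS.tr_self, AX.tr_self, Category.id_comp, Category.comp_id]⟩
  le_trans k k' k'' h h' := by
    obtain ⟨ha, hb, e⟩ := h
    obtain ⟨ha', hb', e'⟩ := h'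
    refine ⟨ha.trans ha', hb.trans hb', ?_⟩
    rw [← AS.tr_comp ha ha', ← Category.assoc, e', Category.assoc, e, ← Category.assoc, AX.tr_comp]

/-- A compatible morphism into a given stage exists above any stage of the source. -/
theorem exists_idx (a : AS.I) (b : AX.I) : ∃ k : Idx f AX AS, k.a = a ∧ b ≤ k.b := by
  let t : AX.D ⟶ (Functor.const _).obj (Spec (.of (ULift.{u} ℤ))) :=
    { app := fun i => IsTerminal.from specULiftZIsTerminal _
      naturality := fun i j g => specULiftZIsTerminal.hom_ext _ _ }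
  let g := IsTerminal.from specULiftZIsTerminal (AS.D.obj (op a))
  have : LocallyOfFinitePresentation g :=
    have := Sys.isNoetherianRing_ulift.{u}
    inferInstance
  obtain ⟨i, φ, hφ, -⟩ := Scheme.exists_π_app_comp_eq_of_locallyOfFinitePresentation
    AX.D t g AX.cone AX.isLimit (f ≫ AS.pr a)
    (by ext i; exact specULiftZIsTerminal.hom_ext _ _)
  obtain ⟨b', hb, hb'⟩ := AX.exists_ge b i.unop
  refine ⟨⟨a, b', AX.tr hb' ≫ φ, ?_⟩, rfl, hb⟩
  rw [← Category.assoc, AX.pr_tr]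
  exact hφ

/-- Two compatible morphisms agree at a later stage of the source. -/
theorem exists_eq {a : AS.I} {b : AX.I} (φ₁ φ₂ : AX.D.obj (op b) ⟶ AS.D.obj (op a))
    (h : AX.pr b ≫ φ₁ = AX.pr b ≫ φ₂) :
    ∃ (b' : AX.I) (hb : b ≤ b'), AX.tr hb ≫ φ₁ = AX.tr hb ≫ φ₂ := by
  let t : AX.D ⟶ (Functor.const _).obj (Spec (.of (ULift.{u} ℤ))) :=
    { app := fun i => IsTerminal.from specULiftZIsTerminal _
      naturality := fun i j g => specULiftZIsTerminal.hom_ext _ _ }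
  obtain ⟨k, g, e⟩ := Scheme.exists_hom_comp_eq_comp_of_locallyOfFiniteType AX.D t
    (IsTerminal.from specULiftZIsTerminal (AS.D.obj (op a))) AX.cone AX.isLimit φ₁ φ₂
    (specULiftZIsTerminal.hom_ext _ _) (specULiftZIsTerminal.hom_ext _ _) h
  exact ⟨k.unop, leOfHom g.unop, e⟩

/-- A common successor above a given stage of the target. -/
theorem exists_le (k : Idx f AX AS) {a : AS.I} (ha : k.a ≤ a) (b : AX.I) :
    ∃ k' : Idx f AX AS, k ≤ k' ∧ k'.a = a ∧ b ≤ k'.b := by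
  obtain ⟨⟨a, b₁, φ₁, w₁⟩, rfl, hb₁⟩ := exists_idx f AX AS a b
  obtain ⟨b₂, h₁, h₀⟩ := AX.exists_ge b₁ k.b
  obtain ⟨b₃, h₃, e⟩ := exists_eq AX AS (AX.tr h₁ ≫ φ₁ ≫ AS.tr ha) (AX.tr h₀ ≫ k.φ) (by
    rw [← Category.assoc, ← Category.assoc, AX.pr_tr, w₁, Category.assoc, AS.pr_tr,
      ← Category.assoc, AX.pr_tr, k.w])
  refine ⟨⟨a, b₃, AX.tr (h₁.trans h₃) ≫ φ₁, ?_⟩, ⟨ha, h₀.trans h₃, ?_⟩, rfl,
    hb₁.trans (h₁.trans h₃)⟩
  · rw [← Category.assoc, AX.pr_tr, w₁]
  · show (AX.tr (h₁.trans h₃) ≫ φ₁) ≫ AS.tr ha = AX.tr (h₀.trans h₃) ≫ k.φ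
    rw [← AX.tr_comp h₁ h₃, ← AX.tr_comp h₀ h₃]
    simpa only [Category.assoc] using e

instance isDirected : IsDirected (Idx f AX AS) (fun k k' => k ≤ k') where
  directed k k' := by
    obtain ⟨a, ha, ha'⟩ := AS.exists_ge k.a k'.a
    obtain ⟨k₁, hk₁, rfl, -⟩ := exists_le f AX AS k ha k.b
    obtain ⟨k₂, hk₂, h₂a, hk₂b⟩ := exists_le f AX AS k' ha' k₁.b
    obtain ⟨a₂, b₂, φ₂, w₂⟩ := k₂
    dsimp only at h₂a hk₂b
    subst h₂a
    obtain ⟨b₃, h₃, e⟩ := exists_eq AX AS φ₂ (AX.tr hk₂b ≫ k₁.φ) (by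
      rw [← Category.assoc, AX.pr_tr, w₂, k₁.w])
    refine ⟨⟨k₁.a, b₃, AX.tr h₃ ≫ φ₂, by rw [← Category.assoc, AX.pr_tr, w₂]⟩,
      hk₁.trans ⟨le_rfl, hk₂b.trans h₃, ?_⟩, hk₂.trans ⟨le_rfl, h₃, ?_⟩⟩
    · show (AX.tr h₃ ≫ φ₂) ≫ AS.tr _ = AX.tr (hk₂b.trans h₃) ≫ k₁.φ
      rw [AS.tr_self, Category.comp_id, e, ← Category.assoc, AX.tr_comp]
    · show (AX.tr h₃ ≫ φ₂) ≫ AS.tr _ = AX.tr h₃ ≫ φ₂
      rw [AS.tr_self, Category.comp_id]

instance nonempty : Nonempty (Idx f AX AS) :=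
  ⟨(exists_idx f AX AS (Classical.arbitrary _) (Classical.arbitrary _)).choose⟩

/-- The source stage. -/
def projX : Idx f AX AS →o AX.I := ⟨fun k => k.b, fun _ _ h => h.choose_spec.choose⟩

/-- The target stage. -/
def projS : Idx f AX AS →o AS.I := ⟨fun k => k.a, fun _ _ h => h.choose⟩

instance final_projX : (projX f AX AS).monotone.functor.Final := by
  rw [Monotone.final_functor_iff]
  intro b
  obtain ⟨k, -, hb⟩ := exists_idx f AX AS (Classical.arbitrary _) b
  exact ⟨k, hb⟩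

instance final_projS : (projS f AX AS).monotone.functor.Final := by
  rw [Monotone.final_functor_iff]
  intro a
  obtain ⟨k, ha, -⟩ := exists_idx f AX AS a (Classical.arbitrary _)
  exact ⟨k, ha.ge⟩

/-- The source system. -/
abbrev DX : (Idx f AX AS)ᵒᵖ ⥤ Scheme.{u} := (projX f AX AS).monotone.functor.op ⋙ AX.D

/-- The target system. -/
abbrev DS : (Idx f AX AS)ᵒᵖ ⥤ Scheme.{u} := (projS f AX AS).monotone.functor.op ⋙ AS.D

/-- The morphisms of the stages. -/
noncomputable def hom : DX f AX AS ⟶ DS f AX AS where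
  app k := k.unop.φ
  naturality k k' g := by
    obtain ⟨ha, hb, e⟩ := leOfHom g.unop
    exact e.symm

/-- The source is the limit of the source system. -/
noncomputable def isLimitX :
    IsLimit (AX.cone.whisker (projX f AX AS).monotone.functor.op) :=
  (Functor.Initial.isLimitWhiskerEquiv (projX f AX AS).monotone.functor.op AX.cone).symm AX.isLimit

/-- The target is the limit of the target system. -/
noncomputable def isLimitS :
    IsLimit (AS.cone.whisker (projS f AX AS).monotone.functor.op) :=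
  (Functor.Initial.isLimitWhiskerEquiv (projS f AX AS).monotone.functor.op AS.cone).symm AS.isLimit

end Groth.Agent.Lib.Lim.Approx.Morph
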