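import Groth.Agent.Lib.Lim.Approx.Basic
import Groth.Agent.Lib.Lim.Approx.Local

/-!
# The rings of an approximation step

Given a scheme covered by an open `V` with an approximation and an affine open `U`, the rings of
the affine parts of the stages are finitely generated subrings of the fibre products
`Γ(U) ×_{Γ(U ∩ V)} Γ(Wᵢ)`.
-/

set_option autoImplicit false
universe u
open CategoryTheory Limits AlgebraicGeometry Opposite TopologicalSpace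
open Groth.Agent.Lib.Lim.Approx.Basic

namespace Groth.Agent.Lib.Lim.Approx.Ring

set_option backward.isDefEq.respectTransparency false

variable {T V U : Scheme.{u}}

/-- The normalised input of an approximation step. -/
structure Datum (jV : V ⟶ T) (jU : U ⟶ T) [IsOpenImmersion jV] [IsOpenImmersion jU]
    (A : Approx V) where
  i₀ : A.I
  W₀ : (A.D.obj (op i₀)).Opens
  preim : A.pr i₀ ⁻¹ᵁ W₀ = jV ⁻¹ᵁ jU.opensRange
  isCompact : IsCompact (W₀ : Set (A.D.obj (op i₀)))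
  n : ℕ
  f : Fin n → Γ(U, ⊤)
  g : Fin n → Γ(W₀, ⊤)
  fg : ∀ k (a : ((A.pr i₀ ⁻¹ᵁ W₀ : V.Opens) : Scheme.{u}) ⟶ U),
    a ≫ jU = (A.pr i₀ ⁻¹ᵁ W₀).ι ≫ jV → a.appTop (f k) = (A.pr i₀ ∣_ W₀).appTop (g k)
  f_le : ∀ k (a : ((A.pr i₀ ⁻¹ᵁ W₀ : V.Opens) : Scheme.{u}) ⟶ U),
    a ≫ jU = (A.pr i₀ ⁻¹ᵁ W₀).ι ≫ jV → (U.basicOpen (f k) : Set U) ⊆ Set.range a
  affine : ∀ k, IsAffineOpen ((W₀ : Scheme.{u}).basicOpen (g k))
  cover : ∀ x : (W₀ : Scheme.{u}), ∃ k, x ∈ (W₀ : Scheme.{u}).basicOpen (g k)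

variable {jV : V ⟶ T} {jU : U ⟶ T} [IsOpenImmersion jV] [IsOpenImmersion jU] {A : Approx V}
  (d : Datum jV jU A)

namespace Datum

/-- Stages after `i₀`. -/
abbrev Idx : Type u := {i : A.I // d.i₀ ≤ i}

/-- The open `Wᵢ` of a stage. -/
abbrev Wi (i : d.Idx) : (A.D.obj (op i.1)).Opens := A.tr i.2 ⁻¹ᵁ d.W₀

lemma Wi_le {i i' : d.Idx} (h : i ≤ i') : d.Wi i' ≤ A.tr (show i.1 ≤ i'.1 from h) ⁻¹ᵁ d.Wi i := by
  rw [← Scheme.Hom.comp_preimage, A.tr_comp]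

lemma preimage_Wi {i i' : d.Idx} (h : i ≤ i') :
    A.tr (show i.1 ≤ i'.1 from h) ⁻¹ᵁ d.Wi i = d.Wi i' := by
  rw [← Scheme.Hom.comp_preimage, A.tr_comp]

/-- Transition between the opens `Wᵢ`. -/
noncomputable def r {i i' : d.Idx} (h : i ≤ i') :
    (d.Wi i' : Scheme.{u}) ⟶ (d.Wi i : Scheme.{u}) :=
  (A.tr (show i.1 ≤ i'.1 from h)).resLE (d.Wi i) (d.Wi i') (d.Wi_le h)

@[reassoc]
lemma r_ι {i i' : d.Idx} (h : i ≤ i') :
    d.r h ≫ (d.Wi i).ι = (d.Wi i').ι ≫ A.tr (show i.1 ≤ i'.1 from h) :=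
  Scheme.Hom.resLE_comp_ι _ _

lemma r_comp {i i' i'' : d.Idx} (h : i ≤ i') (h' : i' ≤ i'') :
    d.r h' ≫ d.r h = d.r (h.trans h') := by
  rw [← cancel_mono (d.Wi i).ι, Category.assoc, r_ι, r_ι, r_ι_assoc, A.tr_comp]

lemma r_self (i : d.Idx) : d.r (le_refl i) = 𝟙 _ := by
  rw [← cancel_mono (d.Wi i).ι, r_ι, Category.id_comp, A.tr_self, Category.comp_id]

/-- The map to `W₀`. -/
noncomputable def r₀ (i : d.Idx) : (d.Wi i : Scheme.{u}) ⟶ (d.W₀ : Scheme.{u}) := A.tr i.2 ∣_ d.W₀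

@[reassoc]
lemma r₀_ι (i : d.Idx) : d.r₀ i ≫ d.W₀.ι = (d.Wi i).ι ≫ A.tr i.2 := morphismRestrict_ι _ _

lemma r_r₀ {i i' : d.Idx} (h : i ≤ i') : d.r h ≫ d.r₀ i = d.r₀ i' := by
  rw [← cancel_mono d.W₀.ι, Category.assoc, r₀_ι, r₀_ι, r_ι_assoc, A.tr_comp]

/-- The intersection `U ∩ V`. -/
abbrev W : V.Opens := A.pr d.i₀ ⁻¹ᵁ d.W₀

lemma range_le : Set.range (d.W.ι ≫ jV) ⊆ Set.range jU := by
  rintro _ ⟨x, rfl⟩
  have hx : x.1 ∈ jV ⁻¹ᵁ jU.opensRange := d.preim.le x.2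
  exact hx

/-- The inclusion of `U ∩ V` in `U`. -/
noncomputable def a : (d.W : Scheme.{u}) ⟶ U := IsOpenImmersion.lift jU (d.W.ι ≫ jV) d.range_le

@[reassoc]
lemma a_jU : d.a ≫ jU = d.W.ι ≫ jV := IsOpenImmersion.lift_fac _ _ _

instance isOpenImmersion_a : IsOpenImmersion d.a :=
  have : IsOpenImmersion (d.a ≫ jU) := by rw [a_jU]; infer_instance
  IsOpenImmersion.of_comp _ jU

lemma W_le (i : d.Idx) : d.W ≤ A.pr i.1 ⁻¹ᵁ d.Wi i := by
  rw [← Scheme.Hom.comp_preimage, A.pr_tr]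

/-- The projection `U ∩ V ⟶ Wᵢ`. -/
noncomputable def w (i : d.Idx) : (d.W : Scheme.{u}) ⟶ (d.Wi i : Scheme.{u}) :=
  (A.pr i.1).resLE (d.Wi i) d.W (d.W_le i)

@[reassoc]
lemma w_ι (i : d.Idx) : d.w i ≫ (d.Wi i).ι = d.W.ι ≫ A.pr i.1 := Scheme.Hom.resLE_comp_ι _ _

lemma w_r {i i' : d.Idx} (h : i ≤ i') : d.w i' ≫ d.r h = d.w i := by
  rw [← cancel_mono (d.Wi i).ι, Category.assoc, r_ι, w_ι, w_ι_assoc, A.pr_tr]

lemma w_r₀ (i : d.Idx) : d.w i ≫ d.r₀ i = A.pr d.i₀ ∣_ d.W₀ := by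
  rw [← cancel_mono d.W₀.ι, Category.assoc, r₀_ι, w_ι_assoc, A.pr_tr, morphismRestrict_ι]

instance compactSpace_Wi (i : d.Idx) : CompactSpace (d.Wi i : Scheme.{u}) :=
  isCompact_iff_compactSpace.mp (QuasiCompact.isCompact_preimage _ d.W₀.2 d.isCompact)

instance compactSpace_W : CompactSpace (d.W : Scheme.{u}) :=
  have := isAffineHom_π_app A.D A.cone A.isLimit (op d.i₀)
  isCompact_iff_compactSpace.mp
    (QuasiCompact.isCompact_preimage (f := A.pr d.i₀) _ d.W₀.2 d.isCompact)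

/-- The opens `Wᵢ` in the diagram of opens over `i₀`. -/
abbrev toOver (i : d.Idx) : Over (op d.i₀) := Over.mk (homOfLE i.2).op

/-- Stages after `i₀` from the diagram of opens. -/
abbrev ofOver (j : Over (op d.i₀)) : d.Idx := ⟨j.left.unop, leOfHom j.hom.unop⟩

instance compactSpace_opensDiagram (j : Over (op d.i₀)) :
    CompactSpace ((opensDiagram A.D (op d.i₀) d.W₀).obj j) :=
  d.compactSpace_Wi (d.ofOver j)

instance quasiSeparatedSpace_opensDiagram (j : Over (op d.i₀)) :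
    QuasiSeparatedSpace ((opensDiagram A.D (op d.i₀) d.W₀).obj j) :=
  QuasiSeparatedSpace.of_isOpenEmbedding (d.Wi (d.ofOver j)).ι.isOpenEmbedding

/-- A section over `Wᵢ` vanishing on `U ∩ V` vanishes at some later stage. -/
lemma exists_zero {i : d.Idx} (s : Γ((d.Wi i : Scheme.{u}), ⊤)) (h : (d.w i).appTop s = 0) :
    ∃ (i' : d.Idx) (hle : i ≤ i'), (d.r hle).appTop s = 0 := by
  obtain ⟨j, φ, hj⟩ := exists_appTop_map_eq_zero_of_isLimit (opensDiagram A.D (op d.i₀) d.W₀) _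
    (isLimitOpensCone A.D A.cone A.isLimit (op d.i₀) d.W₀) (i := d.toOver i) s h
  exact ⟨d.ofOver j, leOfHom φ.left.unop, hj⟩

/-- A section over `U ∩ V` comes from every large enough stage. -/
lemma exists_section (i : d.Idx) (s : Γ((d.W : Scheme.{u}), ⊤)) :
    ∃ (i' : d.Idx) (_ : i ≤ i') (t : Γ((d.Wi i' : Scheme.{u}), ⊤)), (d.w i').appTop t = s := by
  obtain ⟨j, t, ht⟩ := exists_appTop_π_eq_of_isLimit (opensDiagram A.D (op d.i₀) d.W₀) _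
    (isLimitOpensCone A.D A.cone A.isLimit (op d.i₀) d.W₀) s
  obtain ⟨k, hk, hk'⟩ := A.exists_ge i.1 (d.ofOver j).1
  let i' : d.Idx := ⟨k, i.2.trans hk⟩
  refine ⟨i', hk, (d.r (show d.ofOver j ≤ i' from hk')).appTop t, ?_⟩
  rw [← ConcreteCategory.comp_apply, ← Scheme.Hom.comp_appTop, d.w_r]
  exact ht.symm

/-- The function `gᵢ` on `Wᵢ`. -/
noncomputable def gi (i : d.Idx) (k : Fin d.n) : Γ((d.Wi i : Scheme.{u}), ⊤) :=
  (d.r₀ i).appTop (d.g k)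

lemma r_gi {i i' : d.Idx} (h : i ≤ i') (k : Fin d.n) : (d.r h).appTop (d.gi i k) = d.gi i' k := by
  rw [gi, gi, ← ConcreteCategory.comp_apply, ← Scheme.Hom.comp_appTop, d.r_r₀]

lemma a_f (i : d.Idx) (k : Fin d.n) : d.a.appTop (d.f k) = (d.w i).appTop (d.gi i k) := by
  rw [gi, ← ConcreteCategory.comp_apply, ← Scheme.Hom.comp_appTop, d.w_r₀, d.fg k d.a d.a_jU]

instance isAffineHom_r₀ (i : d.Idx) : IsAffineHom (d.r₀ i) :=
  IsZariskiLocalAtTarget.restrict (P := @IsAffineHom) inferInstance _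

lemma affine_gi (i : d.Idx) (k : Fin d.n) :
    IsAffineOpen ((d.Wi i : Scheme.{u}).basicOpen (d.gi i k)) := by
  rw [gi, ← Scheme.preimage_basicOpen_top]
  exact (d.affine k).preimage _

lemma cover_gi (i : d.Idx) (x : (d.Wi i : Scheme.{u})) :
    ∃ k, x ∈ (d.Wi i : Scheme.{u}).basicOpen (d.gi i k) := by
  obtain ⟨k, hk⟩ := d.cover (d.r₀ i x)
  refine ⟨k, ?_⟩
  rw [gi, ← Scheme.preimage_basicOpen_top]
  exact hk

/-- The fibre product `Γ(U) ×_{Γ(U ∩ V)} Γ(Wᵢ)`. -/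
noncomputable def B (i : d.Idx) : Subring (Γ(U, ⊤) × Γ((d.Wi i : Scheme.{u}), ⊤)) :=
  (d.a.appTop.hom.comp (RingHom.fst _ _)).eqLocus ((d.w i).appTop.hom.comp (RingHom.snd _ _))

lemma mem_B {i : d.Idx} {p : Γ(U, ⊤) × Γ((d.Wi i : Scheme.{u}), ⊤)} :
    p ∈ d.B i ↔ d.a.appTop p.1 = (d.w i).appTop p.2 := Iff.rfl

/-- The element `(f, gᵢ)`. -/
noncomputable def el (i : d.Idx) (k : Fin d.n) : Γ(U, ⊤) × Γ((d.Wi i : Scheme.{u}), ⊤) :=
  (d.f k, d.gi i k)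

lemma el_mem (i : d.Idx) (k : Fin d.n) : d.el i k ∈ d.B i := d.a_f i k

variable [IsAffine U]

lemma eq_zero_of_a_eq_zero (k : Fin d.n) {x : Γ(U, ⊤)} (h : d.a.appTop x = 0) :
    ∃ m : ℕ, d.f k ^ m * x = 0 := by
  apply exists_pow_mul_eq_zero_of_res_basicOpen_eq_zero_of_isCompact U (U := ⊤) isCompact_univ
  have hle : U.basicOpen (d.f k) ≤ d.a.opensRange := fun x hx => d.f_le k d.a d.a_jU hx
  have := Scheme.Hom.isIso_app d.a _ hle
  apply ((ConcreteCategory.bijective_of_isIso (d.a.app (U.basicOpen (d.f k)))).1)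
  rw [map_zero]
  have e := congr($(d.a.naturality (homOfLE (le_top : U.basicOpen (d.f k) ≤ ⊤)).op) x)
  refine Eq.trans e ?_
  show (d.W : Scheme.{u}).presheaf.map _ (d.a.appTop x) = 0
  rw [h]
  exact map_zero ((d.W : Scheme.{u}).presheaf.map _).hom

lemma exists_a_eq (k : Fin d.n) (r : Γ((d.W : Scheme.{u}), ⊤)) :
    ∃ (m : ℕ) (x : Γ(U, ⊤)), d.a.appTop x = d.a.appTop (d.f k) ^ m * r := by
  let D := U.basicOpen (d.f k)
  have hle : D ≤ d.a.opensRange := fun x hx => d.f_le k d.a d.a_jU hx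
  have := Scheme.Hom.isIso_app d.a _ hle
  let res := U.presheaf.map (homOfLE (le_top : D ≤ ⊤)).op
  let res' := (d.W : Scheme.{u}).presheaf.map
    (homOfLE (le_top : d.a ⁻¹ᵁ D ≤ ⊤)).op
  obtain ⟨z, hz⟩ := (ConcreteCategory.bijective_of_isIso (d.a.app D)).2 (res' r)
  have := (isAffineOpen_top U).isLocalization_basicOpen (d.f k)
  obtain ⟨⟨x, _, m, rfl⟩, hx⟩ := IsLocalization.surj (Submonoid.powers (d.f k)) z
  have hx' : z * res (d.f k ^ m) = res x := hx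
  have hn : ∀ y, d.a.app D (res y) = res' (d.a.appTop y) := fun y =>
    congr($(d.a.naturality (homOfLE (le_top : D ≤ ⊤)).op) y)
  have h0 := congrArg (d.a.app D) hx'
  rw [map_mul, hz, hn, hn, map_pow d.a.appTop.hom, ← map_mul] at h0
  have hD : d.a ⁻¹ᵁ D = (d.W : Scheme.{u}).basicOpen (d.a.appTop (d.f k)) :=
    Scheme.preimage_basicOpen_top _ _
  obtain ⟨n, hn'⟩ := exists_pow_mul_eq_zero_of_res_basicOpen_eq_zero_of_isCompact
    (d.W : Scheme.{u}) (U := ⊤) isCompact_univ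
    (d.a.appTop x - d.a.appTop (d.f k) ^ m * r) (d.a.appTop (d.f k)) (by
      have h1 : res' (d.a.appTop x - d.a.appTop (d.f k) ^ m * r) = 0 := by
        rw [map_sub, sub_eq_zero, ← h0, mul_comm]
      have h2 := congrArg ((d.W : Scheme.{u}).presheaf.map (homOfLE hD.ge).op) h1
      rw [← ConcreteCategory.comp_apply, ← Functor.map_comp, map_zero] at h2
      exact h2)
  refine ⟨n + m, d.f k ^ n * x, ?_⟩
  rw [mul_sub, sub_eq_zero] at hn'
  rw [map_mul, map_pow, hn', pow_add, mul_assoc]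

end Datum

end Groth.Agent.Lib.Lim.Approx.Ring
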