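import Groth.Agent.Lib.Lim.Approx.Affines
import Groth.Agent.Lib.Lim.Approx.Glue

/-!
# One step of absolute Noetherian approximation

If `T` is covered by an open `V` with an approximation and an affine open `U`, then `T` has an
approximation extending that of `V` (given a normalised datum).
-/

set_option autoImplicit false
universe u
open CategoryTheory Limits AlgebraicGeometry Opposite TopologicalSpace
open Groth.Agent.Lib.Lim.Approx.Basic Groth.Agent.Lib.Lim.Approx.Ring
open Groth.Agent.Lib.Lim.Approx.Index Groth.Agent.Lib.Lim.Approx.Affines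

namespace Groth.Agent.Lib.Lim.Approx.Step

set_option backward.isDefEq.respectTransparency false

variable {T V U : Scheme.{u}} {jV : V ⟶ T} {jU : U ⟶ T} [IsOpenImmersion jV] [IsOpenImmersion jU]
  [IsAffine U] {A : Approx V} (d : Datum jV jU A)

/-- A glued stage. -/
noncomputable def obj (j : Stage d) : Scheme.{u} := pushout (d.Wi j.i).ι (u d j)

/-- The `V`-part of a stage. -/
noncomputable def inl (j : Stage d) : A.D.obj (op j.i.1) ⟶ obj d j :=
  pushout.inl (d.Wi j.i).ι (u d j)

/-- The `U`-part of a stage. -/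
noncomputable def inr (j : Stage d) : Y d j ⟶ obj d j := pushout.inr (d.Wi j.i).ι (u d j)

instance isOpenImmersion_inl (j : Stage d) : IsOpenImmersion (inl d j) :=
  Glue.isOpenImmersion_inl _ _

instance isOpenImmersion_inr (j : Stage d) : IsOpenImmersion (inr d j) :=
  Glue.isOpenImmersion_inr _ _

@[reassoc]
lemma glue_w (j : Stage d) : (d.Wi j.i).ι ≫ inl d j = u d j ≫ inr d j := pushout.condition

lemma hom_ext {j : Stage d} {Z : Scheme.{u}} {f g : obj d j ⟶ Z} (h₁ : inl d j ≫ f = inl d j ≫ g)
    (h₂ : inr d j ≫ f = inr d j ≫ g) : f = g := pushout.hom_ext h₁ h₂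

/-- The transition map of glued stages. -/
noncomputable def map {j j' : Stage d} (h : j ≤ j') : obj d j' ⟶ obj d j :=
  pushout.map _ _ _ _ (A.tr (le_i d h)) (Spec.map (τ d h)) (d.r (le_i d h))
    (d.r_ι (le_i d h)).symm (r_u d h).symm

@[reassoc]
lemma inl_map {j j' : Stage d} (h : j ≤ j') :
    inl d j' ≫ map d h = A.tr (le_i d h) ≫ inl d j := pushout.inl_desc _ _ _

@[reassoc]
lemma inr_map {j j' : Stage d} (h : j ≤ j') :
    inr d j' ≫ map d h = Spec.map (τ d h) ≫ inr d j := pushout.inr_desc _ _ _

lemma map_self (j : Stage d) : map d (le_refl j) = 𝟙 _ := by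
  refine hom_ext d ?_ ?_
  · rw [inl_map, Category.comp_id, A.tr_self, Category.id_comp]
  · rw [inr_map, Category.comp_id, τ_self, Spec.map_id, Category.id_comp]

lemma map_comp {j j' j'' : Stage d} (h : j ≤ j') (h' : j' ≤ j'') :
    map d h' ≫ map d h = map d (h.trans h') := by
  refine hom_ext d ?_ ?_
  · rw [inl_map, inl_map_assoc, inl_map, ← Category.assoc, A.tr_comp]
  · rw [inr_map, inr_map_assoc, inr_map, ← Category.assoc, ← Spec.map_comp, τ_comp]

/-- The system of glued stages. -/
noncomputable def D : (Stage d)ᵒᵖ ⥤ Scheme.{u} where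
  obj j := obj d j.unop
  map a := map d (leOfHom a.unop)
  map_id j := map_self d j.unop
  map_comp a b := (map_comp d (leOfHom b.unop) (leOfHom a.unop)).symm

lemma cover (j : Stage d) (x : obj d j) :
    x ∈ Set.range (inl d j) ∨ x ∈ Set.range (inr d j) := Glue.inl_or_inr _ _ x

lemma preimage_inl {j j' : Stage d} (h : j ≤ j') :
    map d h ⁻¹ᵁ (inl d j).opensRange = (inl d j').opensRange := by
  ext x
  constructor
  · rintro ⟨v, hv⟩
    rcases cover d j' x with ⟨v', rfl⟩ | ⟨y, rfl⟩
    · exact ⟨v', rfl⟩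
    · rw [← Scheme.Hom.comp_apply, inr_map, Scheme.Hom.comp_apply] at hv
      obtain ⟨w, -, hw⟩ := Glue.exists_of_inl_eq_inr _ _ hv
      obtain ⟨w', rfl⟩ := preimage_range_u d h ⟨w, hw⟩
      exact ⟨(d.Wi j'.i).ι w', by rw [← Scheme.Hom.comp_apply, glue_w]; rfl⟩
  · rintro ⟨v, rfl⟩
    exact ⟨A.tr (le_i d h) v, by
      rw [← Scheme.Hom.comp_apply, ← inl_map]; rfl⟩

lemma preimage_inr {j j' : Stage d} (h : j ≤ j') :
    map d h ⁻¹ᵁ (inr d j).opensRange = (inr d j').opensRange := by
  ext x
  constructor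
  · rintro ⟨y, hy⟩
    rcases cover d j' x with ⟨v, rfl⟩ | ⟨y', rfl⟩
    · rw [← Scheme.Hom.comp_apply, inl_map, Scheme.Hom.comp_apply] at hy
      obtain ⟨w, hw, -⟩ := Glue.exists_of_inl_eq_inr _ _ hy.symm
      have hv : v ∈ d.Wi j'.i := by
        rw [← d.preimage_Wi (le_i d h)]
        show A.tr (le_i d h) v ∈ d.Wi j.i
        rw [← hw]
        exact w.2
      exact ⟨u d j' ⟨v, hv⟩, by rw [← Scheme.Hom.comp_apply, ← glue_w]; rfl⟩
    · exact ⟨y', rfl⟩
  · rintro ⟨y, rfl⟩
    exact ⟨Spec.map (τ d h) y, by rw [← Scheme.Hom.comp_apply, ← inr_map]; rfl⟩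

lemma iSup_opensRange (j : Stage d) :
    ⨆ b : ULift.{u} Bool, cond b.down (inl d j).opensRange (inr d j).opensRange = ⊤ := by
  refine top_le_iff.mp fun x _ => ?_
  rcases cover d j x with hx | hx
  · exact Opens.mem_iSup.mpr ⟨⟨true⟩, hx⟩
  · exact Opens.mem_iSup.mpr ⟨⟨false⟩, hx⟩

lemma isAffineHom_map {j j' : Stage d} (h : j ≤ j') : IsAffineHom (map d h) := by
  rw [IsZariskiLocalAtTarget.iff_of_iSup_eq_top (P := @IsAffineHom) _ (iSup_opensRange d j)]
  rintro ⟨_ | _⟩
  · have sq : IsPullback (inr d j') (Spec.map (τ d h)) (map d h) (inr d j) :=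
      (IsOpenImmersion.isPullback _ _ _ _ (inr_map d h) (preimage_inr d h)).flip
    rw [cond_false, MorphismProperty.arrow_mk_iso_iff @IsAffineHom
      (morphismRestrictOpensRange (map d h) (inr d j))]
    have : IsAffineHom (Spec.map (τ d h)) := inferInstance
    rwa [← MorphismProperty.cancel_left_of_respectsIso @IsAffineHom sq.isoPullback.hom,
      sq.isoPullback_hom_snd]
  · have sq : IsPullback (inl d j') (A.tr (le_i d h)) (map d h) (inl d j) :=
      (IsOpenImmersion.isPullback _ _ _ _ (inl_map d h) (preimage_inl d h)).flip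
    rw [cond_true, MorphismProperty.arrow_mk_iso_iff @IsAffineHom
      (morphismRestrictOpensRange (map d h) (inl d j))]
    have : IsAffineHom (A.tr (le_i d h)) := inferInstance
    rwa [← MorphismProperty.cancel_left_of_respectsIso @IsAffineHom sq.isoPullback.hom,
      sq.isoPullback_hom_snd]

lemma compactSpace_obj (j : Stage d) : CompactSpace (obj d j) := by
  refine ⟨?_⟩
  rw [show (Set.univ : Set (obj d j)) = Set.range (inl d j) ∪ Set.range (inr d j) from
    (Set.eq_univ_of_forall (cover d j)).symm]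
  exact (isCompact_range (inl d j).continuous).union (isCompact_range (inr d j).continuous)

lemma lft_obj (j : Stage d) :
    LocallyOfFiniteType (IsTerminal.from specULiftZIsTerminal (obj d j)) := by
  rw [IsZariskiLocalAtSource.iff_of_iSup_eq_top (P := @LocallyOfFiniteType) _ (iSup_opensRange d j)]
  rintro ⟨_ | _⟩
  · rw [cond_false, ← MorphismProperty.cancel_left_of_respectsIso @LocallyOfFiniteType
      (inr d j).isoOpensRange.hom]
    convert lft_Y d j using 1
    exact specULiftZIsTerminal.hom_ext _ _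
  · rw [cond_true, ← MorphismProperty.cancel_left_of_respectsIso @LocallyOfFiniteType
      (inl d j).isoOpensRange.hom]
    convert A.lft (op j.i.1) using 1
    exact specULiftZIsTerminal.hom_ext _ _

/-- The glued system. -/
noncomputable def sys : Sys.{u} where
  I := Stage d
  D := D d
  affine a := isAffineHom_map d (leOfHom a.unop)
  compact j := compactSpace_obj d j.unop
  lft j := lft_obj d j.unop

variable (hcov : ∀ x : T, x ∈ Set.range jV ∨ x ∈ Set.range jU)

omit [IsAffine U] in
lemma isPullback_W : IsPullback d.W.ι d.a jV jU := by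
  refine (IsOpenImmersion.isPullback d.a d.W.ι jU jV d.a_jU.symm ?_).flip
  rw [Scheme.Opens.opensRange_ι]
  exact d.preim.symm

include hcov in
lemma exists_pr (j : Stage d) : ∃ g : T ⟶ obj d j,
    jV ≫ g = A.pr j.i.1 ≫ inl d j ∧ jU ≫ g = σ d j ≫ inr d j := by
  refine Glue.exists_glue jV jU hcov _ _ (isPullback_W d) _ _ ?_
  rw [← d.w_ι_assoc, glue_w, ← Category.assoc, w_u, Category.assoc]

/-- The projection to a glued stage. -/
noncomputable def pr (j : Stage d) : T ⟶ obj d j := (exists_pr d hcov j).choose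

@[reassoc]
lemma jV_pr (j : Stage d) : jV ≫ pr d hcov j = A.pr j.i.1 ≫ inl d j :=
  (exists_pr d hcov j).choose_spec.1

@[reassoc]
lemma jU_pr (j : Stage d) : jU ≫ pr d hcov j = σ d j ≫ inr d j :=
  (exists_pr d hcov j).choose_spec.2

include hcov in
omit [IsAffine U] in
lemma ext_T {Z : Scheme.{u}} {f g : T ⟶ Z} (h₁ : jV ≫ f = jV ≫ g) (h₂ : jU ≫ f = jU ≫ g) :
    f = g := by
  refine (T.openCoverOfIsOpenCover (fun b : ULift.{u} Bool => cond b.down jV.opensRange
    jU.opensRange) (top_le_iff.mp fun x _ => ?_)).hom_ext _ _ ?_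
  · rcases hcov x with hx | hx
    · exact Opens.mem_iSup.mpr ⟨⟨true⟩, hx⟩
    · exact Opens.mem_iSup.mpr ⟨⟨false⟩, hx⟩
  · rintro ⟨_ | _⟩
    · rw [← cancel_epi jU.isoOpensRange.hom]
      exact (Category.assoc _ _ _).symm.trans
        ((congrArg (· ≫ f) (Scheme.Hom.isoOpensRange_hom_ι jU)).trans
          (h₂.trans ((congrArg (· ≫ g) (Scheme.Hom.isoOpensRange_hom_ι jU)).symm.trans
            (Category.assoc _ _ _))))
    · rw [← cancel_epi jV.isoOpensRange.hom]
      exact (Category.assoc _ _ _).symm.trans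
        ((congrArg (· ≫ f) (Scheme.Hom.isoOpensRange_hom_ι jV)).trans
          (h₁.trans ((congrArg (· ≫ g) (Scheme.Hom.isoOpensRange_hom_ι jV)).symm.trans
            (Category.assoc _ _ _))))

lemma pr_map {j j' : Stage d} (h : j ≤ j') : pr d hcov j' ≫ map d h = pr d hcov j := by
  refine ext_T hcov ?_ ?_
  · rw [jV_pr_assoc, inl_map, jV_pr, ← Category.assoc, A.pr_tr]
  · rw [jU_pr_assoc, inr_map, jU_pr, ← Category.assoc, σ_tr]

/-- The cone of `T` over the glued system. -/
noncomputable def π : (Functor.const _).obj T ⟶ D d where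
  app j := pr d hcov j.unop
  naturality j j' a := (Category.id_comp _).trans (pr_map d hcov (leOfHom a.unop)).symm

lemma preimage_pr_inl (j : Stage d) :
    pr d hcov j ⁻¹ᵁ (inl d j).opensRange ≤ jV.opensRange := by
  rintro x ⟨v, hv⟩
  rcases hcov x with hx | ⟨y, rfl⟩
  · exact hx
  · rw [← Scheme.Hom.comp_apply, jU_pr, Scheme.Hom.comp_apply] at hv
    obtain ⟨w, -, hw⟩ := Glue.exists_of_inl_eq_inr _ _ hv
    obtain ⟨w', rfl⟩ := σ_mem_range d j ⟨w, hw⟩
    exact ⟨d.W.ι w', by rw [← Scheme.Hom.comp_apply, ← d.a_jU]; rfl⟩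

lemma preimage_pr_inr (j : Stage d) :
    pr d hcov j ⁻¹ᵁ (inr d j).opensRange ≤ jU.opensRange := by
  rintro x ⟨y, hy⟩
  rcases hcov x with ⟨v, rfl⟩ | hx
  · rw [← Scheme.Hom.comp_apply, jV_pr, Scheme.Hom.comp_apply] at hy
    obtain ⟨w, hw, -⟩ := Glue.exists_of_inl_eq_inr _ _ hy.symm
    have hv : v ∈ d.W := by
      show A.pr d.i₀ v ∈ d.W₀
      rw [← A.pr_tr j.i.2, Scheme.Hom.comp_apply]
      show A.pr j.i.1 v ∈ d.Wi j.i
      rw [← hw]
      exact w.2
    exact ⟨d.a ⟨v, hv⟩, by rw [← Scheme.Hom.comp_apply, d.a_jU]; rfl⟩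
  · exact hx

/-- The stages are cofinal in the stages of `V`. -/
def proj : Stage d →o A.I := ⟨fun j => j.i.1, fun _ _ h => le_i d h⟩

/-- The diagram of affine parts. -/
noncomputable def ringDiagram : Stage d ⥤ CommRingCat.{u} where
  obj j := R d j
  map a := τ d (leOfHom a)
  map_id j := τ_self d j
  map_comp a b := (τ_comp d (leOfHom a) (leOfHom b)).symm

/-- `Γ(U)` as a cocone on the rings of the stages. -/
noncomputable def ringCocone : Cocone (ringDiagram d) where
  pt := Γ(U, ⊤)
  ι :=
    { app := fun j => ψ d j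
      naturality := fun j j' a => (τ_ψ d (leOfHom a)).trans (Category.comp_id _).symm }

lemma isFiltered : IsFiltered (Stage d) := isFiltered_of_directed_le_nonempty _

/-- `Γ(U)` is the colimit of the rings of the stages. -/
theorem nonempty_isColimit_ringCocone : Nonempty (IsColimit (ringCocone d)) := by
  have := isFiltered d
  have : ReflectsColimitsOfShape (Stage d) (forget CommRingCat.{u}) :=
    reflectsColimitsOfShape_of_reflectsIsomorphisms
  refine ⟨isColimitOfReflects (forget CommRingCat.{u})
    (Types.FilteredColimit.isColimitOf' _ _ ?_ ?_)⟩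
  · intro x
    obtain ⟨j, p, hp⟩ := exists_mem d x
    exact ⟨j, p, hp.symm⟩
  · intro j p q h
    obtain ⟨j', hle, he⟩ := exists_eq d j p q h
    exact ⟨j', homOfLE hle, Subtype.ext he⟩

/-- The affine parts as a functor. -/
noncomputable abbrev affFunctor : (Stage d)ᵒᵖ ⥤ Scheme.{u} := (ringDiagram d).op ⋙ Scheme.Spec

/-- The inclusion of the `V`-parts. -/
noncomputable def inlNat : (proj d).monotone.functor.op ⋙ A.D ⟶ D d where
  app j := inl d j.unop
  naturality j j' a := (inl_map d (leOfHom a.unop)).symm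

/-- The inclusion of the `U`-parts. -/
noncomputable def inrNat : affFunctor d ⟶ D d where
  app j := inr d j.unop
  naturality j j' a := (inr_map d (leOfHom a.unop)).symm

/-- `U` as a cone over the affine parts. -/
noncomputable def affCone : Cone (affFunctor d) where
  pt := U
  π :=
    { app := fun j => σ d j.unop
      naturality := fun j j' a => (Category.id_comp _).trans (σ_tr d (leOfHom a.unop)).symm }

/-- The affine parts have limit `U`. -/
theorem nonempty_isLimit_affCone : Nonempty (IsLimit (affCone d)) := by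
  obtain ⟨hc⟩ := nonempty_isColimit_ringCocone d
  exact ⟨(isLimitOfPreserves Scheme.Spec hc.op).ofIsoLimit
    (Cone.ext U.isoSpec.symm (fun j => by
      show Spec.map (ψ d j.unop) = U.isoSpec.inv ≫ U.toSpecΓ ≫ Spec.map (ψ d j.unop)
      rw [← Scheme.isoSpec_hom, Iso.inv_hom_id_assoc]))⟩

instance final_proj : ((proj d).monotone.functor).Final := by
  rw [Monotone.final_functor_iff]
  exact fun i => exists_stage_ge d i

/-- The glued system has limit `T`. -/
theorem nonempty_isLimit : Nonempty (IsLimit (Cone.mk T (π d hcov))) := by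
  have hV : IsLimit (A.cone.whisker (proj d).monotone.functor.op) :=
    (Functor.Initial.isLimitWhiskerEquiv (proj d).monotone.functor.op A.cone).symm A.isLimit
  obtain ⟨hU⟩ := nonempty_isLimit_affCone d
  have : IsCofiltered (Stage d)ᵒᵖ := (sys d).isCofiltered
  let F : Bool → ((Stage d)ᵒᵖ ⥤ Scheme.{u}) := fun b =>
    match b with | true => (proj d).monotone.functor.op ⋙ A.D | false => affFunctor d
  let α : ∀ b, F b ⟶ D d := fun b => match b with | true => inlNat d | false => inrNat d
  let c : ∀ b, Cone (F b) := fun b =>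
    match b with | true => A.cone.whisker (proj d).monotone.functor.op | false => affCone d
  let q : ∀ b, (c b).pt ⟶ T := fun b => match b with | true => jV | false => jU
  have : ∀ b j, IsOpenImmersion ((α b).app j) := by
    rintro (_ | _) j
    · exact isOpenImmersion_inr d j.unop
    · exact isOpenImmersion_inl d j.unop
  have : ∀ b, IsOpenImmersion (q b) := by rintro (_ | _) <;> assumption
  refine Local.nonempty_isLimit_of_cover (c := Cone.mk T (π d hcov)) α c q ?_ ?_ ?_ ?_ ?_
  · rintro (_ | _) j k a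
    · exact preimage_inr d (leOfHom a.unop)
    · exact preimage_inl d (leOfHom a.unop)
  · intro j x
    rcases cover d j.unop x with hx | hx
    · exact ⟨true, hx⟩
    · exact ⟨false, hx⟩
  · rintro (_ | _) j
    · exact jU_pr d hcov j.unop
    · exact jV_pr d hcov j.unop
  · rintro (_ | _) j
    · exact preimage_pr_inr d hcov j.unop
    · exact preimage_pr_inl d hcov j.unop
  · rintro (_ | _)
    · exact hU
    · exact hV

/-- The glued approximation of `T`. -/
noncomputable def approx : Approx T where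
  toSys := sys d
  π := π d hcov
  isLimit := (nonempty_isLimit d hcov).some

/-- The glued approximation extends that of `V`. -/
noncomputable def ext : Extends jV A (approx d hcov) where
  α := proj d
  ι j := inl d j
  isOpen j := isOpenImmersion_inl d j
  w h := (inl_map d h).symm
  pre h := (preimage_inl d h).le
  π_w j := jV_pr d hcov j
  pre_π j := preimage_pr_inl d hcov j

end Groth.Agent.Lib.Lim.Approx.Step
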